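import Cfsg.Agent.EqOrd.Solv
import Cfsg.Agent.Solv.Maschke
import Cfsg.Agent.Grp.MaxClass
import Cfsg.Agent.S3909

/-! Groups in which abelian subgroups of equal order are conjugate: action of a `q`-group on a normal
elementary abelian Sylow `p`-subgroup. -/

set_option autoImplicit false
set_option linter.unusedSectionVars false
set_option linter.unusedVariables false

namespace Cfsg.Agent.EqOrd

open Cfsg Subgroup PLocal PLocal.Amb
open scoped Pointwise commutatorElement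

universe u
variable {G : Type u} [Group G] [Finite G] {p q : ℕ}

/-- abelian subgroups of equal order are conjugate -/
def AB (G : Type*) [Group G] : Prop :=
  ∀ A B : Subgroup G, IsMulCommutative A → IsMulCommutative B → Nat.card A = Nat.card B →
    ∃ g : G, B = cj(g, A)

/-- the elements outside the commutator subgroup have the same order -/
def Hm (R : Subgroup G) : Prop := ∃ m, ∀ x : R, orderOf x = m ∨ x ∈ commutator R

theorem AB.mem (h : AB G) (K : Subgroup G) [K.Normal] {a b : G} (hb : b ∈ K)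
    (e : orderOf b = orderOf a) : a ∈ K := (S3909.result h K).1 a ⟨b, hb, e⟩

theorem ab_typ [Fact q.Prime] (hD : DAll G) {R : Subgroup G} (hR : IsPGroup q R) :
    IsCyclic R ∨ Hm R := by
  obtain ⟨P, hP⟩ := hR.exists_le_sylow
  rcases S4020.result hD P with h | h | ⟨⟨e⟩⟩
  · exact .inl (isCyclic_of_le hP)
  · refine .inr ⟨q, fun x => ?_⟩
    by_cases x1 : x = 1
    · exact .inr (x1 ▸ one_mem _)
    · exact .inl (orderOf_eq_prime (Subtype.ext (h.2 x (hP x.2))) x1)
  · let f : R →* QuaternionGroup 2 := e.toMonoidHom.comp (inclusion hP)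
    have hf : Function.Injective f := e.injective.comp (inclusion_injective hP)
    by_cases hc : ∀ x y : R, x * y = y * x
    · left
      by_cases h4 : ∃ x : R, f x ^ 2 ≠ 1
      · obtain ⟨x, hx⟩ := h4
        refine ⟨x, fun y => ?_⟩
        obtain ⟨n, hn⟩ := (by decide : ∀ a b : QuaternionGroup 2, a ^ 2 ≠ 1 → a * b = b * a →
          ∃ n : Fin 4, a ^ (n : ℕ) = b) _ (f y) hx (by rw [← map_mul, ← map_mul, hc])
        exact ⟨(n : ℕ), hf (by simp only [zpow_natCast, map_pow, hn])⟩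
      · push Not at h4
        by_cases h1 : ∃ x : R, x ≠ 1
        · obtain ⟨x, hx⟩ := h1
          refine ⟨x, fun y => ?_⟩
          rcases (by decide : ∀ a b : QuaternionGroup 2, a ^ 2 = 1 → b ^ 2 = 1 → a = 1 ∨ b = 1 ∨ a = b)
            _ _ (h4 x) (h4 y) with k | k | k
          · exact absurd (hf (k.trans (map_one f).symm)) hx
          · exact ⟨0, hf (by simp [k])⟩
          · exact ⟨1, hf (by simp [k])⟩
        · push Not at h1
          exact ⟨1, fun y => ⟨0, by simp [h1 y]⟩⟩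
    · push Not at hc
      obtain ⟨a, b, hab⟩ := hc
      refine .inr ⟨4, fun x => ?_⟩
      rcases (by decide : ∀ a b x : QuaternionGroup 2, a * b ≠ b * a →
        (x ^ 2 ^ 1 ≠ 1 ∧ x ^ 2 ^ (1 + 1) = 1) ∨ x = 1 ∨ x = a * b * a⁻¹ * b⁻¹) (f a) (f b) (f x)
        (fun k => hab (hf (by rw [map_mul, map_mul, k]))) with k | k | k
      · exact .inl ((orderOf_injective f hf x).symm.trans (orderOf_eq_prime_pow k.1 k.2))
      · exact .inr (hf (k.trans (map_one f).symm) ▸ one_mem _)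
      · refine .inr ?_
        rw [hf (show f x = f ⁅a, b⁆ by simp only [k, commutatorElement_def, map_mul, map_inv])]
        exact commutator_mem_commutator (mem_top a) (mem_top b)

theorem ab_ker {R : Subgroup G} {Γ : Type*} [Group Γ] [IsCyclic Γ] (f : R →* Γ) {x : R}
    (hx : x ∈ commutator R) : f x = 1 := by
  refine (commutator_le.2 fun a _ b _ => ?_ : commutator R ≤ f.ker) hx
  rw [MonoidHom.mem_ker, map_commutatorElement, commutatorElement_eq_one_iff_mul_comm]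
  exact IsCyclic.isMulCommutative.1.1 _ _

/-- a non-cyclic `q`-group which is cyclic modulo a normal subgroup lies in it -/
theorem AB.le_of_cyc [Fact q.Prime] (h : AB G) (hD : DAll G) {R : Subgroup G} (hR : IsPGroup q R)
    (hc : ¬ IsCyclic R) (K : Subgroup G) [K.Normal] {Γ : Type*} [Group Γ] [IsCyclic Γ] (f : R →* Γ)
    (hf : ∀ x : R, f x = 1 → (x : G) ∈ K) : R ≤ K := by
  obtain ⟨m, hm⟩ := (ab_typ hD hR).resolve_left hc
  by_cases h1 : ∃ y : R, f y = 1 ∧ orderOf y = m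
  · obtain ⟨y, hy, e⟩ := h1
    intro x hx
    rcases hm ⟨x, hx⟩ with k | k
    · exact h.mem K (hf y hy) (by rw [orderOf_coe, e, ← k, ← orderOf_coe])
    · exact hf _ (ab_ker f k)
  push Not at h1
  refine absurd (Grp.MaxClass.isCyclic_of_isCyclic_abelianization hR ?_) hc
  obtain ⟨⟨_, x, rfl⟩, hx⟩ := IsCyclic.exists_generator (α := f.range)
  refine ⟨(x : R ⧸ commutator R), fun y => ?_⟩
  obtain ⟨y, rfl⟩ := QuotientGroup.mk_surjective y
  obtain ⟨n, hn⟩ := hx ⟨f y, y, rfl⟩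
  have e : f ((x ^ n)⁻¹ * y) = 1 := by
    rw [map_mul, map_inv, map_zpow, inv_mul_eq_one]
    exact congrArg Subtype.val hn
  exact ⟨n, (QuotientGroup.mk_zpow _ x n).symm.trans
    (QuotientGroup.eq.2 ((hm _).resolve_left (h1 _ e)))⟩

/-- the semi-affine case -/
theorem AB.le_of_semi [Fact p.Prime] [Fact q.Prime] (h : AB G) (hD : DAll G) {R : Subgroup G}
    (hR : IsPGroup q R) (hc : ¬ IsCyclic R) (hpq : q ≠ p) {n : ℕ} (hn : n.Prime)
    (ψ : G →* semiaffineGroup (GaloisField p n)) : R ≤ ψ.ker := by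
  obtain ⟨φ, hφ⟩ := exists_autPart (F := GaloisField p n)
  have := Fact.mk hn
  have : IsCyclic (RingAut (GaloisField p n)) := isCyclic_of_prime_card (card_galois p n hn.ne_zero).2.2
  have h1 := h.le_of_cyc hD hR hc (φ.comp ψ).ker ((φ.comp ψ).comp R.subtype) fun x hx => hx
  have e0 : ∀ x : R, ∃ (a : (GaloisField p n)ˣ) (b : GaloisField p n), ∀ y, (ψ x).1 y = a * y + b :=
    fun x => hφ _ (h1 x.2)
  choose a b e using e0
  refine h.le_of_cyc hD hR hc _ (MonoidHom.mk' a fun x y => Units.ext ?_) fun x hx => ?_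
  · have k : ∀ z, (a (x * y) : GaloisField p n) * z + b (x * y) = a x * (a y * z + b y) + b x := fun z => by
      rw [← e, ← e, ← e, Subgroup.coe_mul, map_mul, Subgroup.coe_mul, Equiv.Perm.mul_apply]
    rw [Units.val_mul]
    linear_combination k 1 - k 0
  · have hx' : a x = 1 := hx
    have k : ∀ m : ℕ, ∀ y, (ψ x ^ m).1 y = y + m * b x := fun m => by
      induction m with
      | zero => simp
      | succ m ih =>
        intro y
        rw [pow_succ', Subgroup.coe_mul, Equiv.Perm.mul_apply, ih, e, hx']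
        push_cast
        ring
    have k1 : ψ x ^ p = 1 := Subtype.ext (Equiv.ext fun y => by
      rw [k, CharP.cast_eq_zero, zero_mul, add_zero]; rfl)
    obtain ⟨j, hj⟩ := isPGroup_iff.1 hR x x.2
    have k2 : ψ x ^ q ^ j = 1 := by rw [← map_pow, hj, map_one]
    exact orderOf_eq_one_iff.1 (Nat.eq_one_of_dvd_coprimes
      (((Nat.coprime_primes Fact.out Fact.out).2 hpq).pow_left j)
      (orderOf_dvd_of_pow_eq_one k2) (orderOf_dvd_of_pow_eq_one k1))

theorem AB.le_of_three [Group.IsSolvable G] [Fact p.Prime] [Fact q.Prime] (h : AB G) (hD : DAll G)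
    {M R : Subgroup G} [M.Normal] (hM : IsSyl p M ⊤) (hel : IsElementaryAbelian p M) {n : ℕ}
    (hn : 3 ≤ n) (hc : Nat.card M = p ^ n) (hR : IsPGroup q R) (hnc : ¬ IsCyclic R) (hpq : q ≠ p) :
    R ≤ 𝐂[M] := by
  have hN : ∀ x : G, x ∈ 𝐍[M] := fun x => by rw [normalizer_eq_top]; trivial
  let π : G →* ↥𝐍[M] ⧸ pPrimeCore p ↥𝐍[M] :=
    (QuotientGroup.mk' _).comp ((MonoidHom.id G).codRestrict _ hN)
  have hπ : ∀ x, π x = 1 → x ∈ 𝐂[M] := fun x hx => by
    have h1 : (⟨x, hN x⟩ : 𝐍[M]) ∈ pPrimeCore p ↥𝐍[M] := (QuotientGroup.eq_one_iff _).1 hx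
    have h2 := Grp.le_centralizer_of_normal_of_inf_eq_bot (pPrimeCore p ↥𝐍[M]) (M.subgroupOf 𝐍[M])
      (disjoint_iff.1 (disjoint_of_coprime_natCard (by
        rw [Grp.card_subgroupOf_of_le le_normalizer, hc]
        exact (Grp.pPrimeCore_coprime p _).pow_right n))) h1
    exact mem_centralizer_iff.2 fun m hm =>
      congrArg Subtype.val (mem_centralizer_iff.1 h2 ⟨m, hN m⟩ hm)
  rcases (hD p Fact.out).aff hM hn hel hc with ⟨-, ⟨f, hf⟩, -⟩ | ⟨-, rfl, ⟨f⟩⟩
  · exact fun x hx => hπ x (hf ((h.le_of_semi hD hR hnc hpq Nat.prime_three (f.comp π) hx).trans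
      (map_one f).symm))
  · exact fun x hx => hπ x (f.injective ((h.le_of_semi hD hR hnc hpq Nat.prime_five
      (f.toMonoidHom.comp π) hx).trans (map_one f).symm))

theorem ab_aut [Fact p.Prime] {U R : Subgroup G} (hU : Nat.card U = p) (hR : R ≤ 𝐍[U]) :
    ∃ f : R →* (ZMod p)ˣ, ∀ x : R, f x = 1 ↔ (x : G) ∈ 𝐂[U] := by
  have := isCyclic_of_prime_card hU
  have e := IsCyclic.mulAutMulEquiv U
  rw [hU] at e
  refine ⟨e.toMonoidHom.comp (U.normalizerMonoidHom.comp (inclusion hR)), fun x => ?_⟩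
  rw [MonoidHom.comp_apply, MulEquiv.coe_toMonoidHom, EmbeddingLike.map_eq_one_iff, MonoidHom.comp_apply,
    ← MonoidHom.mem_ker, normalizerMonoidHom_ker, mem_subgroupOf]
  rfl

theorem ab_cen [Fact p.Prime] {U : Subgroup G} (hU : Nat.card U = p) {u x : G} (hu : u ∈ U) (u1 : u ≠ 1)
    (e : u * x = x * u) : x ∈ 𝐂[U] := by
  have h1 : orderOf u = p := ((Nat.dvd_prime Fact.out).1 (hU ▸ U.orderOf_dvd_natCard hu)).resolve_left
    fun k => u1 (orderOf_eq_one_iff.1 k)
  rw [← eq_of_le_of_card_ge (zpowers_le.2 hu) (by rw [Nat.card_zpowers, h1, hU])]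
  rintro _ ⟨n, rfl⟩
  exact ((show Commute u x from e).zpow_left n).eq

theorem AB.le_of_two [Fact p.Prime] [Fact q.Prime] (h : AB G) (hD : DAll G)
    {M U R : Subgroup G} [M.Normal] (hel : IsElementaryAbelian p M) (hc : Nat.card M = p ^ 2)
    (hUM : U ≤ M) (hU : Nat.card U = p) (hRU : R ≤ 𝐍[U]) (hR : IsPGroup q R) (hnc : ¬ IsCyclic R)
    (hpq : q ≠ p) : R ≤ 𝐂[M] := by
  have hp : p.Prime := Fact.out
  have hN : ∀ X : Subgroup G, X ≤ 𝐍[M] := fun X => by rw [normalizer_eq_top]; exact le_top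
  have cM : M ≤ 𝐂[M] := le_centralizer_iff_isMulCommutative.2 hel.1
  have cs : ∀ W ≤ M, U ⊓ W = ⊥ → Nat.card ↥(U ⊔ W) = p * Nat.card W := fun W hW e => by
    have := Grp.card_sup_mul_card_inf_of_le_normalizer (H := U) (N := W)
      (hUM.trans (cM.trans ((centralizer_le hW).trans (centralizer_le_normalizer _))))
    rwa [e, card_bot, mul_one, hU] at this
  obtain ⟨v, hv, vU⟩ : ∃ v ∈ M, v ∉ U := SetLike.not_le_iff_exists.1 fun k => by
    have := card_le_of_le k
    rw [hc, hU] at this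
    nlinarith [hp.two_le]
  have ov : Nat.card (zpowers v) = p := by
    rw [Nat.card_zpowers]
    exact orderOf_eq_prime (hel.2 v hv) fun k => vU (k ▸ one_mem _)
  have d : U ⊓ zpowers v = ⊥ := by
    rcases (Nat.dvd_prime hp).1 (ov ▸ card_dvd_of_le (inf_le_right : U ⊓ zpowers v ≤ _)) with k | k
    · exact card_eq_one.1 k
    · exact absurd ((eq_of_le_of_card_ge inf_le_right (by rw [k, ov])).ge (mem_zpowers v)).1 vU
  obtain ⟨j, hj⟩ := hR.exists_card_eq
  obtain ⟨W, hW, hRW, dW, sW⟩ := Solv.maschke M R U hel.1 (hN R)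
    (by rw [hj, hU]; exact ((Nat.coprime_primes Fact.out hp).2 hpq).pow_left j) hUM hRU (zpowers v)
    (zpowers_le.2 hv) d (eq_of_le_of_card_ge (sup_le hUM (zpowers_le.2 hv)) (by
      rw [cs _ (zpowers_le.2 hv) d, ov, hc, sq]))
  have cW : Nat.card W = p := by
    have := cs W hW dW
    rw [sW, hc, sq] at this
    exact (Nat.eq_of_mul_eq_mul_left hp.pos this).symm
  have nW : U ≤ 𝐍[W] := hUM.trans (cM.trans ((centralizer_le hW).trans (centralizer_le_normalizer _)))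
  have both : ∀ x, x ∈ 𝐂[U] → x ∈ 𝐂[W] → x ∈ 𝐂[M] := fun x h1 h2 m hm => by
    obtain ⟨u, hu, w, hw, rfl⟩ := (mem_sup_of_le_normalizer_right nW).1 (sW.ge hm)
    rw [mul_assoc, h2 w hw, ← mul_assoc, h1 u hu, mul_assoc]
  obtain ⟨f, hf⟩ := ab_aut hU hRU
  obtain ⟨f', hf'⟩ := ab_aut cW hRW
  by_contra hn
  obtain ⟨a, a1, a2⟩ : ∃ a : R, f a = 1 ∧ (a : G) ∉ 𝐂[M] := by
    by_contra! k
    exact hn (h.le_of_cyc hD hR hnc _ f k)
  obtain ⟨b, b1, b2⟩ : ∃ a : R, f' a = 1 ∧ (a : G) ∉ 𝐂[M] := by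
    by_contra! k
    exact hn (h.le_of_cyc hD hR hnc _ f' k)
  have a3 : f' a ≠ 1 := fun k => a2 (both _ ((hf a).1 a1) ((hf' a).1 k))
  have b3 : f b ≠ 1 := fun k => b2 (both _ ((hf b).1 k) ((hf' b).1 b1))
  have c1 : f (a * b) ≠ 1 := by rwa [map_mul, a1, one_mul]
  have c2 : f' (a * b) ≠ 1 := by rwa [map_mul, b1, mul_one]
  obtain ⟨m, hm⟩ := (ab_typ hD hR).resolve_left hnc
  obtain ⟨g, hg⟩ := h (zpowers (a : G)) (zpowers ((a * b : R) : G)) inferInstance inferInstance (by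
    rw [Nat.card_zpowers, Nat.card_zpowers, orderOf_coe, orderOf_coe,
      (hm a).resolve_right fun k => a3 (ab_ker f' k), (hm _).resolve_right fun k => c1 (ab_ker f k)])
  obtain ⟨⟨u₀, hu₀⟩, u1⟩ := ne_bot_iff_exists_ne_one.1 (show U ≠ ⊥ from fun k => by
    rw [k, card_bot] at hU; exact hp.one_lt.ne hU)
  replace u1 : u₀ ≠ 1 := fun k => u1 (Subtype.ext k)
  generalize a * b = c at c1 c2 hg
  have e1 : g * u₀ * g⁻¹ * c = c * (g * u₀ * g⁻¹) := by
    have := (zpowers_le.2 ((hf a).1 a1)) (mem_cj.1 (hg.le (mem_zpowers _))) u₀ hu₀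
    calc _ = g * (u₀ * (g⁻¹ * c * g)) * g⁻¹ := by group
      _ = _ := by rw [this]; group
  obtain ⟨u, hu, w, hw, e2⟩ := (mem_sup_of_le_normalizer_right nW).1
    (sW.ge (‹M.Normal›.conj_mem _ (hUM hu₀) g))
  rw [e2] at e1
  have e3 : (c * u * (c : G)⁻¹)⁻¹ * u = c * w * (c : G)⁻¹ * w⁻¹ := by
    calc _ = (c * u * (c : G)⁻¹)⁻¹ * (u * w * c) * (c : G)⁻¹ * w⁻¹ := by group
      _ = _ := by rw [e1]; group
  have e4 : (c * u * (c : G)⁻¹)⁻¹ * u = 1 := mem_bot.1 (dW.le (mem_inf.2 ⟨mul_mem (inv_mem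
    (conj_mem_of_mem_normalizer (hRU c.2) hu)) hu,
    e3 ▸ mul_mem (conj_mem_of_mem_normalizer (hRW c.2) hw) (inv_mem hw)⟩))
  by_cases k : u = 1
  · refine c2 ((hf' c).2 (ab_cen cW hw (fun k' => u1 ?_) ?_))
    · rwa [k, k', mul_one, conj_eq_one_iff] at e2
    · exact (mul_inv_eq_iff_eq_mul.1 (mul_inv_eq_one.1 (e3.symm.trans e4))).symm
  · exact c1 ((hf c).2 (ab_cen hU hu k (mul_inv_eq_iff_eq_mul.1 (inv_mul_eq_one.1 e4)).symm))

end Cfsg.Agent.EqOrd
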