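import Cfsg.Agent.EqOrd.AbA
import Cfsg.Agent.S3912

/-! Solvable groups in which abelian subgroups of equal order are conjugate. -/

set_option autoImplicit false
set_option linter.unusedSectionVars false
set_option linter.unusedVariables false

namespace Cfsg.Agent.EqOrd

open Cfsg Subgroup PLocal PLocal.Amb
open scoped Pointwise

universe u
variable {G : Type u} [Group G] [Finite G] [Group.IsSolvable G] {p : ℕ}

theorem ab_le {A B : Subgroup G} (hA : IsMulCommutative A) (h : B ≤ A) : IsMulCommutative B :=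
  le_centralizer_iff_isMulCommutative.1
    (h.trans ((le_centralizer_iff_isMulCommutative.2 hA).trans (centralizer_anti h)))

theorem ab_dec {A : Subgroup G} {m n : ℕ} (hc : Nat.card A = m * n) (hmn : m.Coprime n) :
    ∃ A₁ A₂ : Subgroup G, Nat.card A₁ = m ∧ Nat.card A₂ = n ∧ A₁ ⊔ A₂ = A := by
  obtain ⟨A₁, h1, c1⟩ := Solv.exists_hall_in hc hmn
  obtain ⟨A₂, h2, c2⟩ := Solv.exists_hall_in (hc.trans (mul_comm _ _)) hmn.symm
  refine ⟨A₁, A₂, c1, c2, eq_of_le_of_card_ge (sup_le h1 h2) (Nat.le_of_dvd Nat.card_pos ?_)⟩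
  rw [hc]
  exact hmn.mul_dvd_of_dvd_of_dvd (c1 ▸ card_dvd_of_le le_sup_left) (c2 ▸ card_dvd_of_le le_sup_right)

theorem ab_uniq {W A W' : Subgroup G} (hc : W ≤ 𝐂[A]) (hcop : (Nat.card W).Coprime (Nat.card A))
    (hW' : W' ≤ W ⊔ A) (e : Nat.card W' = Nat.card W) : W' = W := by
  refine eq_of_le_of_card_ge (fun x hx => ?_) e.ge
  obtain ⟨w, hw, a, ha, rfl⟩ :=
    (mem_sup_of_le_normalizer_right (hc.trans (centralizer_le_normalizer' _))).1 (hW' hx)
  have h1 : (w * a) ^ Nat.card W = 1 := orderOf_dvd_iff_pow_eq_one.1 (e ▸ W'.orderOf_dvd_natCard hx)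
  have h2 : Commute w a := (hc hw a ha).symm
  rw [h2.mul_pow, orderOf_dvd_iff_pow_eq_one.1 (W.orderOf_dvd_natCard hw), one_mul] at h1
  rw [orderOf_eq_one_iff.1 (Nat.eq_one_of_dvd_coprimes hcop (orderOf_dvd_of_pow_eq_one h1)
    (A.orderOf_dvd_natCard ha)), mul_one]
  exact hw

theorem ab_glue {T A₁ A₂ B₁ B₂ : Subgroup G} (hA : IsMulCommutative ↥(A₁ ⊔ A₂))
    (hB : IsMulCommutative ↥(B₁ ⊔ B₂)) (hT : A₁ ⊔ A₂ ≤ T) (hT' : B₁ ⊔ B₂ ≤ T) {g : G} (hg : g ∈ T)
    (h1 : B₁ = cj(g, A₁))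
    (h2 : ∀ X Y : Subgroup G, X ≤ T ⊓ 𝐂[B₁] → Y ≤ T ⊓ 𝐂[B₁] → IsMulCommutative X →
      IsMulCommutative Y → Nat.card X = Nat.card A₂ → Nat.card Y = Nat.card B₂ →
      ∃ t ∈ T ⊓ 𝐂[B₁], Y = cj(t, X)) :
    ∃ t ∈ T, B₁ ⊔ B₂ = cj(t, A₁ ⊔ A₂) := by
  have k : ∀ {X Y : Subgroup G}, IsMulCommutative ↥(X ⊔ Y) → Y ≤ 𝐂[X] := fun h =>
    le_sup_right.trans ((le_centralizer_iff_isMulCommutative.2 h).trans (centralizer_anti le_sup_left))
  have := ab_le hA le_sup_right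
  obtain ⟨t, ht, e⟩ := h2 cj(g, A₂) B₂ (le_inf (cj_le_of_mem (le_sup_right.trans hT) hg) (by
    rw [h1, centralizer_cj]; exact cj_mono g (k hA))) (le_inf (le_sup_right.trans hT') (k hB))
    inferInstance (ab_le hB le_sup_right) (card_cj _ _) rfl
  refine ⟨t * g, mul_mem ht.1 hg, ?_⟩
  rw [cj_mul, cj_sup, cj_sup, ← e, ← h1, cj_of_mem_normalizer (centralizer_le_normalizer' _ ht.2)]

/-- abelian subgroups of equal order are conjugate when the relevant Sylow subgroups are cyclic -/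
theorem ab_cyc (n : ℕ) : ∀ T A B : Subgroup G, A ≤ T → B ≤ T → IsMulCommutative A →
    IsMulCommutative B → Nat.card A = n → Nat.card B = n →
    (∀ q : ℕ, q.Prime → q ∣ n → ∀ R ≤ T, IsPGroup q R → IsCyclic R) → ∃ t ∈ T, B = cj(t, A) := by
  induction n using Nat.strong_induction_on with
  | _ n ih =>
  intro T A B hA hB cA cB eA eB h
  by_cases h1 : n = 1
  · exact ⟨1, one_mem _, by rw [cj_one, card_eq_one.1 (eA.trans h1), card_eq_one.1 (eB.trans h1)]⟩
  obtain ⟨q, hq, hd⟩ := Nat.exists_prime_and_dvd h1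
  have := Fact.mk hq
  have h0 : n ≠ 0 := eA ▸ Nat.card_pos.ne'
  obtain ⟨i, m, hm, e⟩ := Nat.exists_eq_pow_mul_and_not_dvd h0 q hq.ne_one
  have cop : (q ^ i).Coprime m := ((Nat.Prime.coprime_iff_not_dvd hq).2 hm).pow_left i
  obtain ⟨A₁, A₂, a1, a2, rfl⟩ := ab_dec (eA.trans e) cop
  obtain ⟨B₁, B₂, b1, b2, rfl⟩ := ab_dec (eB.trans e) cop
  obtain ⟨P, hP⟩ := exists_isSyl q T
  obtain ⟨a, ha, ha'⟩ := hP.exists_cj_le (IsPGroup.of_card a1) (le_sup_left.trans hA)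
  obtain ⟨b, hb, hb'⟩ := hP.exists_cj_le (IsPGroup.of_card b1) (le_sup_left.trans hB)
  have k := eq_of_le_cyclic (h q hq hd P hP.le hP.pgrp) ha' hb' (by rw [card_cj, card_cj, a1, b1])
  have hmn : m ∣ n := e ▸ dvd_mul_left _ _
  exact ab_glue cA cB hA hB (mul_mem (inv_mem hb) ha) (by rw [cj_mul, k, cj_inv_cj])
    fun X Y hX hY cX cY eX eY => ih m
      (lt_of_le_of_ne (Nat.le_of_dvd (Nat.pos_of_ne_zero h0) hmn) fun k => hm (k ▸ hd))
      _ X Y hX hY cX cY (eX.trans a2) (eY.trans b2)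
      fun r hr hrm R hR => h r hr (hrm.trans hmn) R (hR.trans inf_le_left)

theorem ab_fact (P : ℕ → Prop) (n : ℕ) (hn : n ≠ 0) : ∃ a b, n = a * b ∧
    (∀ q : ℕ, q.Prime → q ∣ a → P q) ∧ ∀ q : ℕ, q.Prime → q ∣ b → ¬ P q := by
  induction n using induction_on_primes with
  | zero => exact absurd rfl hn
  | one => exact ⟨1, 1, rfl, fun q hq h => absurd (Nat.dvd_one.1 h) hq.ne_one,
      fun q hq h => absurd (Nat.dvd_one.1 h) hq.ne_one⟩
  | prime_mul r n hr ih =>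
    obtain ⟨a, b, rfl, h1, h2⟩ := ih (right_ne_zero_of_mul hn)
    by_cases h : P r
    · refine ⟨r * a, b, (mul_assoc _ _ _).symm, fun q hq hd => ?_, h2⟩
      rcases (Nat.Prime.dvd_mul hq).1 hd with k | k
      · exact (Nat.prime_dvd_prime_iff_eq hq hr).1 k ▸ h
      · exact h1 q hq k
    · refine ⟨a, r * b, by ring, h1, fun q hq hd => ?_⟩
      rcases (Nat.Prime.dvd_mul hq).1 hd with k | k
      · exact (Nat.prime_dvd_prime_iff_eq hq hr).1 k ▸ h
      · exact h2 q hq k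

/-- abelian `p'`-subgroups of equal order of the normalizer of `U` are conjugate there -/
theorem AB.loc [Fact p.Prime] (h : AB G) (hD : DAll G) {M U A B : Subgroup G} [M.Normal]
    (hM : IsSyl p M ⊤) (hel : IsElementaryAbelian p M) {k : ℕ} (hk : 2 ≤ k)
    (hc : Nat.card M = p ^ k) (hU : U ≤ M) (hA : A ≤ 𝐍[U]) (hB : B ≤ 𝐍[U])
    (cA : IsMulCommutative A) (cB : IsMulCommutative B) (e : Nat.card A = Nat.card B)
    (hp : ¬ p ∣ Nat.card A) : ∃ s ∈ 𝐍[U], B = cj(s, A) := by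
  by_cases h0 : U.Normal
  · obtain ⟨g, hg⟩ := h A B cA cB e
    exact ⟨g, by rw [normalizer_eq_top]; trivial, hg⟩
  have key : ∀ q : ℕ, q.Prime → q ≠ p → ¬ (∀ R ≤ 𝐍[U], IsPGroup q R → IsCyclic R) →
      ∀ R ≤ 𝐍[U], IsPGroup q R → R ≤ 𝐂[M] := by
    intro q hq hqp hn R hR pR
    have := Fact.mk hq
    push Not at hn
    obtain ⟨R₀, h1, h2, h3⟩ := hn
    obtain ⟨Q, hQ, h4⟩ := exists_isSyl_ge h2 h1
    have h5 : ¬ IsCyclic Q := fun k => h3 (isCyclic_of_le h4)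
    obtain ⟨g, -, hg⟩ := hQ.exists_le_cj pR hR
    refine hg.trans ((cj_mono g ?_).trans (cj_of_normal g _).le)
    rcases hk.eq_or_lt with rfl | hk
    · refine h.le_of_two hD hel hc hU ?_ hQ.le hQ.pgrp h5 hqp
      obtain ⟨i, hi, e⟩ := (Nat.dvd_prime_pow Fact.out).1 (hc ▸ card_dvd_of_le hU)
      interval_cases i
      · exact absurd (card_eq_one.1 e ▸ inferInstance) h0
      · simpa using e
      · exact absurd (eq_of_le_of_card_ge hU (by rw [hc, e]) ▸ inferInstance) h0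
    · exact h.le_of_three hD hM hel hk hc hQ.pgrp h5 hqp
  obtain ⟨a, b, e1, h1, h2⟩ := ab_fact (fun q => ¬ ∀ R ≤ 𝐍[U], IsPGroup q R → IsCyclic R)
    (Nat.card A) Nat.card_pos.ne'
  have cop : a.Coprime b := Nat.coprime_of_dvd fun q hq k k' => h2 q hq k' (h1 q hq k)
  have pa : ¬ p ∣ a := fun k => hp (e1 ▸ k.mul_right b)
  obtain ⟨A₁, A₂, a1, a2, rfl⟩ := ab_dec e1 cop
  obtain ⟨B₁, B₂, b1, b2, rfl⟩ := ab_dec (e.symm.trans e1) cop
  have cM : ∀ X ≤ 𝐍[U], Nat.card X = a → X ≤ 𝐂[U] := fun X hX eX => by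
    refine le_trans (relIndex_eq_one.1 ?_ : X ≤ 𝐂[M]) (centralizer_anti hU)
    by_contra k
    obtain ⟨q, hq, hd⟩ := Nat.exists_prime_and_dvd k
    have := Fact.mk hq
    obtain ⟨Q, hQ⟩ := exists_isSyl q X
    have hqa : q ∣ a := hd.trans (eX ▸ relIndex_dvd_card _ _)
    have := key q hq (fun k => pa (k ▸ hqa)) (h1 q hq hqa) Q (hQ.le.trans hX) hQ.pgrp
    exact hQ.not_dvd_relIndex (hd.trans (relIndex_dvd_of_le_left _ this))
  have cop' : (Nat.card U).Coprime a := Nat.Coprime.coprime_dvd_left (hc ▸ card_dvd_of_le hU)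
    (((Nat.Prime.coprime_iff_not_dvd Fact.out).2 pa).pow_left k)
  have ab : ∀ X ≤ 𝐍[U], IsMulCommutative X → Nat.card X = a →
      IsMulCommutative ↥(U ⊔ X) ∧ Nat.card ↥(U ⊔ X) = Nat.card U * a := fun X hX cX eX => by
    have k1 := cM X hX eX
    have k2 : U ≤ 𝐂[X] := le_centralizer_iff.1 k1
    refine ⟨?_, ?_⟩
    · rw [← le_centralizer_iff_isMulCommutative, Amb.centralizer_sup]
      exact sup_le (le_inf (le_centralizer_iff_isMulCommutative.2 (ab_le hel.1 hU)) k2)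
        (le_inf k1 (le_centralizer_iff_isMulCommutative.2 cX))
    · have := Grp.card_sup_mul_card_inf_of_le_normalizer (H := U) (N := X)
        (k2.trans (centralizer_le_normalizer' _))
      rwa [disjoint_iff.1 (disjoint_of_coprime_natCard (eX ▸ cop')), card_bot, mul_one, eX] at this
  obtain ⟨x1, x2⟩ := ab A₁ (le_sup_left.trans hA) (ab_le cA le_sup_left) a1
  obtain ⟨y1, y2⟩ := ab B₁ (le_sup_left.trans hB) (ab_le cB le_sup_left) b1
  obtain ⟨g, hg⟩ := h _ _ x1 y1 (x2.trans y2.symm)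
  rw [cj_sup] at hg
  have k1 := cM B₁ (le_sup_left.trans hB) b1
  have g1 : cj(g, U) = U := ab_uniq (A := B₁) (le_centralizer_iff.1 k1) (b1 ▸ cop')
    (le_sup_left.trans hg.ge) (card_cj _ _)
  have g2 : cj(g, A₁) = B₁ := ab_uniq (A := U) k1 (b1 ▸ cop'.symm)
    (le_sup_right.trans (hg.ge.trans (sup_comm _ _).le)) (by rw [card_cj, a1, b1])
  exact ab_glue cA cB hA hB (cj_eq_iff.1 g1) g2.symm fun X Y hX hY cX cY eX eY =>
    ab_cyc b _ X Y hX hY cX cY (eX.trans a2) (eY.trans b2)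
      fun q hq hd R hR => not_not.1 (h2 q hq hd) R (hR.trans inf_le_left)

theorem AB.compl [Fact p.Prime] (h : AB G) (hD : DAll G) {M U L : Subgroup G} [M.Normal]
    (hM : IsSyl p M ⊤) (hel : IsElementaryAbelian p M) {k : ℕ} (hk : 2 ≤ k)
    (hc : Nat.card M = p ^ k) (hU : U ≤ M) (hL : L ≤ 𝐍[U])
    (cL : (Nat.card L).Coprime (Nat.card M)) (eL : 𝐍[U] = 𝐍[U] ⊓ M ⊔ L) : AB L := by
  intro A B cA cB e
  obtain ⟨s, hs, hg⟩ := h.loc hD hM hel hk hc hU ((map_subtype_le A).trans hL)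
    ((map_subtype_le B).trans hL) inferInstance inferInstance
    (by rw [card_subtype, card_subtype, e]) fun k' => (Fact.out : p.Prime).one_lt.ne'
      (Nat.eq_one_of_dvd_coprimes cL (k'.trans (card_dvd_of_le (map_subtype_le A)))
        (hc ▸ dvd_pow_self p (by omega)))
  obtain ⟨m, hm, l, hl, rfl⟩ := (mem_sup_of_le_normalizer_left (N := M) (H := L)
    (by rw [normalizer_eq_top]; exact le_top)).1 ((eL.le.trans (sup_le_sup_right inf_le_right L)) hs)
  refine ⟨⟨l, hl⟩, map_injective L.subtype_injective ?_⟩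
  rw [map_subtype_cj]
  refine (eq_of_le_of_card_ge (fun x hx => ?_) (by rw [hg, card_cj, card_cj])).symm
  have h1 : m * x * m⁻¹ ∈ B.map L.subtype := by rw [hg, cj_mul]; exact conj_mem_cj m hx
  have h2 : m * x * m⁻¹ * x⁻¹ ∈ L ⊓ M := mem_inf.2 ⟨mul_mem (map_subtype_le B h1)
    (inv_mem (cj_le_of_mem (map_subtype_le A) hl hx)), by
      have := mul_mem hm (‹M.Normal›.conj_mem _ (inv_mem hm) x)
      simpa only [mul_assoc] using this⟩
  rw [disjoint_iff.1 (disjoint_of_coprime_natCard cL), mem_bot, mul_inv_eq_one] at h2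
  exact h2 ▸ h1

/-- the step through a normal abelian Hall subgroup, with the complement exposed -/
theorem conj_of_hall_compl {M H K : Subgroup G} [M.Normal]
    (hM : (Nat.card M).Coprime M.index) (hc : Nat.card H = Nat.card K) (hU : H ⊓ M = K ⊓ M)
    (h : ∀ L ≤ 𝐍[(H ⊓ M : Subgroup G)], (Nat.card L).Coprime (Nat.card M) →
      𝐍[(H ⊓ M : Subgroup G)] = 𝐍[(H ⊓ M : Subgroup G)] ⊓ M ⊔ L → AC L) :
    ∃ g : G, K = cj(g, H) := by
  have dec : ∀ X : Subgroup G, ∃ Y ≤ X, Nat.card Y = M.relIndex X ∧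
      (Nat.card Y).Coprime (Nat.card M) ∧ Nat.card X = Nat.card Y * Nat.card ↥(X ⊓ M) ∧
      X = X ⊓ M ⊔ Y := fun X => by
    have h1 := Grp.card_inf_mul_relIndex' M X
    have h2 : (M.relIndex X).Coprime (Nat.card M) :=
      Nat.Coprime.coprime_dvd_left (relIndex_dvd_index_of_normal M X) hM.symm
    have h3 := Nat.Coprime.coprime_dvd_right (card_dvd_of_le (inf_le_left : M ⊓ X ≤ M)) h2
    obtain ⟨Y, hY, e⟩ := Solv.exists_hall_in (M := X) (h1.symm.trans (mul_comm _ _)) h3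
    rw [inf_comm, ← e] at h1 h3
    refine ⟨Y, hY, e, e ▸ h2, by rw [← h1, mul_comm], le_antisymm ?_ (sup_le inf_le_left hY)⟩
    refine (eq_of_le_of_card_ge (sup_le inf_le_left hY) (Nat.le_of_dvd Nat.card_pos ?_)).ge
    rw [← h1]
    exact Nat.Coprime.mul_dvd_of_dvd_of_dvd h3.symm (card_dvd_of_le le_sup_left)
      (card_dvd_of_le le_sup_right)
  have hn : ∀ X : Subgroup G, X ≤ 𝐍[(X ⊓ M : Subgroup G)] := fun X =>
    le_normalizer_inf le_normalizer (by rw [normalizer_eq_top]; exact le_top)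
  obtain ⟨H₁, a1, -, a2, a3, a4⟩ := dec H
  obtain ⟨K₁, b1, -, b2, b3, b4⟩ := dec K
  obtain ⟨L, c1, -, c2, c3, c6⟩ := dec 𝐍[(H ⊓ M : Subgroup G)]
  have c4 := Solv.relIndex_eq_of_card_eq_mul c1 c3 rfl
  have c5 : ∀ Y : Subgroup G, (Nat.card Y).Coprime (Nat.card M) →
      (Nat.card Y).Coprime (L.relIndex 𝐍[(H ⊓ M : Subgroup G)]) := fun Y hY => by
    rw [c4]; exact Nat.Coprime.coprime_dvd_right (card_dvd_of_le inf_le_right) hY
  obtain ⟨a, ha, ha'⟩ := Solv.exists_conj_le_hall_in c1 (a1.trans (hn H)) (c5 L c2) (c5 H₁ a2)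
  obtain ⟨b, hb, hb'⟩ := Solv.exists_conj_le_hall_in c1 (b1.trans (hU ▸ hn K)) (c5 L c2) (c5 K₁ b2)
  change cj(a, H₁) ≤ L at ha'
  change cj(b, K₁) ≤ L at hb'
  obtain ⟨l, hl⟩ := h L c1 c2 c6 (cj(a, H₁).subgroupOf L) (cj(b, K₁).subgroupOf L) (by
    rw [Grp.card_subgroupOf_of_le ha', Grp.card_subgroupOf_of_le hb', card_cj, card_cj]
    exact Nat.eq_of_mul_eq_mul_right Nat.card_pos (by rw [← a3, hc, b3, hU]))
  have hl' := congrArg (map L.subtype) hl
  rw [map_subtype_cj, map_subgroupOf_of_le ha', map_subgroupOf_of_le hb'] at hl'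
  refine ⟨b⁻¹ * (l * a), ?_⟩
  rw [a4, cj_sup, cj_of_mem_normalizer (mul_mem (inv_mem hb) (mul_mem (c1 l.2) ha)), cj_mul,
    cj_mul, ← hl', cj_inv_cj, hU, ← b4]

theorem ac_of_ab (n : ℕ) : ∀ (G : Type u) [Group G] [Finite G] [Group.IsSolvable G],
    Nat.card G = n → AB G → AC G := by
  induction n using Nat.strong_induction_on with
  | _ n ih =>
  intro G _ _ hs hn h H K hc
  rcases subsingleton_or_nontrivial G with h0 | h0
  · exact ⟨1, Subsingleton.elim _ _⟩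
  obtain ⟨p, M, hp, hM, hM0, hab, hel, hMp, -⟩ := Grp.exists_minNormal_elementaryAbelian G
  have := Fact.mk hp
  obtain ⟨k, hk⟩ := hMp.exists_card_eq
  have k0 : k ≠ 0 := by rintro rfl; exact hM0 (card_eq_one.1 hk)
  have hpM : p ∣ Nat.card M := hk ▸ dvd_pow_self p k0
  have hq : AC (G ⧸ M) := ih _ (hn ▸ Grp.card_quotient_lt M hM0) _ rfl (S3912.result h hs M)
  by_cases h1 : k = 1
  · rw [h1, pow_one] at hk
    refine conj_of_quot M hq hc (or_iff_not_imp_right.2 fun h2 => ?_)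
    rw [hk, Nat.coprime_comm, hp.coprime_iff_not_dvd, not_not] at h2
    obtain ⟨y, hy⟩ := exists_prime_orderOf_dvd_card' (G := M) p hpM
    have key : ∀ X : Subgroup G, p ∣ Nat.card X → M ≤ X := fun X hX => by
      obtain ⟨x, hx⟩ := exists_prime_orderOf_dvd_card' (G := X) p hX
      rw [← orderOf_coe] at hx hy
      rw [← eq_of_le_of_card_ge (zpowers_le.2 (h.mem M y.2 (hy.trans hx.symm)))
        (by rw [hk, Nat.card_zpowers, hx])]
      exact zpowers_le.2 x.2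
    exact ⟨key H h2, key K (hc ▸ h2)⟩
  have k2 : 2 ≤ k := by omega
  have hP := (S3909.result h M).2 p k k2 hk ⟨hab, hel⟩
  have hD : DAll G := fun q hq' X Y hX hY e => by
    by_cases hqp : q = p
    · subst hqp
      obtain ⟨P, hXP⟩ := hX.exists_le_sylow
      obtain ⟨Q, hYQ⟩ := hY.exists_le_sylow
      exact h X Y (ab_le hab (hP P ▸ hXP)) (ab_le hab (hP Q ▸ hYQ)) e
    · have := Fact.mk hq'
      obtain ⟨j, hj⟩ := hX.exists_card_eq
      exact conj_of_quot M hq e (.inr (by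
        rw [hj, hk]; exact Nat.Coprime.pow _ _ ((Nat.coprime_primes hq' hp).2 hqp)))
  obtain ⟨P⟩ : Nonempty (Sylow p G) := inferInstance
  have hPM := hP P
  have hcop : (Nat.card M).Coprime M.index := hPM ▸ P.card_coprime_index
  obtain ⟨g, hg⟩ := hD p hp (H ⊓ M) (K ⊓ M) (hMp.to_le inf_le_right) (hMp.to_le inf_le_right) (by
    have key : ∀ X : Subgroup G, IsSyl p (X ⊓ M) X := fun X => isSyl_of_not_dvd_relIndex
      (hMp.to_le inf_le_right) inf_le_left fun h => P.not_dvd_index (by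
        rw [inf_comm, inf_relIndex_right] at h
        exact hPM.symm ▸ h.trans (relIndex_dvd_index_of_normal M X))
    rw [(key H).card_eq_pow, (key K).card_eq_pow, hc])
  obtain ⟨x, hx⟩ := conj_of_hall_compl (H := cj(g, H)) (K := K) hcop ((card_cj g H).trans hc)
    (by rw [hg, cj_inf, cj_of_normal g M]) fun L h1 hL h2 => by
      refine ih _ (hn ▸ Grp.card_lt_of_ne_top ?_) L rfl
        (h.compl hD (hPM ▸ isSyl_top P) ⟨hab, hel⟩ k2 hk inf_le_right h1 hL h2)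
      rintro rfl
      rw [card_top] at hL
      exact hp.one_lt.ne' (Nat.eq_one_of_dvd_coprimes hL (hpM.trans (card_subgroup_dvd_card M)) hpM)
  exact ⟨x * g, by rw [cj_mul, hx]⟩

end Cfsg.Agent.EqOrd
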