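import Cfsg.Agent.EqOrd.Lin
import Cfsg.Agent.PLocal.ElemAb
import Cfsg.Agent.PLocal.AmbSyl
import Cfsg.Agent.Grp.Cores

/-! Solvable groups with a normal elementary abelian Sylow subgroup whose subgroups of equal
order are conjugate. -/

set_option autoImplicit false

namespace Cfsg.Agent.EqOrd

open Cfsg Module Subgroup PLocal PLocal.Amb

/-- `p`-subgroups of equal order are conjugate -/
def PConj (p : ℕ) (G : Type*) [Group G] : Prop :=
  ∀ H K : Subgroup G, IsPGroup p H → IsPGroup p K → Nat.card H = Nat.card K → ∃ g : G, K = cj(g, H)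

/-- the conclusion for the affine case -/
def AffOK (p n : ℕ) [Fact p.Prime] (M : Type*) [Group M] : Prop :=
  (n = 3 ∧ (∃ f : M →* ↥(semiaffineGroup (GaloisField p 3)), Function.Injective f) ∧
    (p = 2 → Nonempty (M ≃* semiaffineGroup (GaloisField 2 3)) ∨
      Nonempty (M ≃* affineGroup (GaloisField 2 3)))) ∨
  (n = 5 ∧ p = 2 ∧ Nonempty (M ≃* semiaffineGroup (GaloisField 2 5)))

variable {M : Type*} [Group M] [Finite M] {p : ℕ} [hp : Fact p.Prime]

theorem aff_main [Group.IsSolvable M] {V : Subgroup M} [V.Normal]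
    (hV : IsElementaryAbelian p V) {n : ℕ} (hn : 3 ≤ n) (hc : Nat.card V = p ^ n)
    (hi : ¬ p ∣ V.index) (hO : pPrimeCore p M = ⊥)
    (hC : ∀ U W : Subgroup M, U ≤ V → W ≤ V → Nat.card U = Nat.card W → ∃ g, W = cj(g, U)) :
    AffOK p n M := by
  have hcop : (Nat.card V).Coprime V.index := by
    rw [hc]; exact ((Nat.Prime.coprime_iff_not_dvd hp.out).2 hi).pow_left n
  obtain ⟨H, hH⟩ := exists_right_complement'_of_coprime hcop
  have hN : H ≤ 𝐍[V] := by rw [normalizer_eq_top]; exact le_top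
  let ρ : H →* (EA hV ≃ₗ[ZMod p] EA hV) :=
    (LinearMap.GeneralLinearGroup.generalLinearEquiv _ _).toMonoidHom.comp
      (EA.rep hV H hN).toHomUnits
  have hρ : ∀ (h : H) v, (ρ h v).val = h * v.val * (h : M)⁻¹ := fun h v => EA.val_rep hN h v
  have htr : ∀ U W : Submodule (ZMod p) (EA hV), finrank (ZMod p) U = finrank (ZMod p) W →
      ∃ g, U.map (ρ g : EA hV →ₗ[ZMod p] EA hV) = W := by
    intro U W h
    obtain ⟨g, hg⟩ := hC _ _ (EA.grp_le U) (EA.grp_le W)
      (by rw [EA.card_grp_eq_pow, EA.card_grp_eq_pow, h])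
    obtain ⟨⟨k, u⟩, rfl, -⟩ := hH.symm.existsUnique g
    refine ⟨k, Submodule.eq_of_le_of_finrank_eq ?_ ((LinearEquiv.finrank_map_eq (ρ k) U).trans h)⟩
    rintro _ ⟨v, hv, rfl⟩
    rw [← EA.val_mem_grp, hg]
    have := conj_mem_cj ((k : M) * u) (EA.val_mem_grp.2 hv)
    rw [mul_assoc (k : M), elemAb_comm hV u.2 v.val_mem] at this
    change (ρ k v).val ∈ _
    rw [hρ]
    convert this using 1
    group
  have hE : Nat.card (EA hV) = p ^ n := (EA.card_eq hV).trans hc
  obtain ⟨h35, e, he⟩ := lin_main ρ hn hE (fun v w hv hw => by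
    obtain ⟨g, hg⟩ := htr (Submodule.span _ {w}) (Submodule.span _ {v})
      (by rw [finrank_span_singleton hv, finrank_span_singleton hw])
    have h1 : ρ g⁻¹ v ∈ Submodule.span (ZMod p) {w} := by
      have : v ∈ (Submodule.span (ZMod p) {w}).map (ρ g : EA hV →ₗ[ZMod p] EA hV) :=
        hg ▸ Submodule.mem_span_singleton_self v
      obtain ⟨x, hx, rfl⟩ := this
      simpa using hx
    obtain ⟨c, hc⟩ := Submodule.mem_span_singleton.1 h1
    have hc0 : c ≠ 0 := by
      rintro rfl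
      rw [zero_smul, eq_comm, LinearEquiv.map_eq_zero_iff] at hc
      exact hv hc
    exact ⟨g⁻¹, (Units.mk0 c hc0)⁻¹, by rw [← hc, inv_smul_eq_iff]; rfl⟩)
    (fun U W hU hW => htr U W (hU.trans hW.symm))
  have hd := card_planes_dvd ρ (fun U W hU hW => htr U W (hU.trans hW.symm)) hn hE ⊥
    (fun z hz U v hv => by rw [mem_bot.1 hz, map_one]; exact hv)
  have hpl := card_planes hn hE
  rw [Subgroup.card_bot, mul_one] at hd
  generalize Nat.card {U : Submodule (ZMod p) (EA hV) // finrank (ZMod p) U = 2} = N at hd hpl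
  let β : EA hV ≃ M ⧸ H := Equiv.ofBijective (fun v => (v.val : M ⧸ H)) ⟨fun v w h => by
      have h1 : v.val⁻¹ * w.val ∈ V ⊓ H :=
        ⟨V.mul_mem (V.inv_mem v.val_mem) w.val_mem, QuotientGroup.eq.1 h⟩
      rw [disjoint_iff.1 hH.disjoint, mem_bot, inv_mul_eq_one] at h1
      exact EA.ext h1, fun x => by
      obtain ⟨g, rfl⟩ := QuotientGroup.mk_surjective x
      obtain ⟨⟨u, k⟩, rfl, -⟩ := hH.existsUnique g
      exact ⟨EA.of hV u u.2, QuotientGroup.eq.2 (by simp [EA.val_of])⟩⟩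
  have hβ : ∀ v, β v = (v.val : M ⧸ H) := fun _ => rfl
  let γ : M ⧸ H ≃ GaloisField p n := β.symm.trans e.toEquiv
  let f₀ : M →* Equiv.Perm (GaloisField p n) :=
    γ.permCongrHom.toMonoidHom.comp (MulAction.toPermHom M (M ⧸ H))
  have hf₀ : Function.Injective f₀ := by
    refine γ.permCongrHom.injective.comp ?_
    rw [← MonoidHom.ker_eq_bot_iff, ← normalCore_eq_ker, eq_bot_iff, ← hO]
    refine Grp.le_pPrimeCore inferInstance (Nat.Coprime.coprime_dvd_left
      (card_dvd_of_le H.normalCore_le) ?_)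
    rw [← hH.symm.index_eq_card]
    exact ((Nat.Prime.coprime_iff_not_dvd hp.out).2 hi).symm
  have hmem : ∀ g, f₀ g ∈ semiaffineGroup (GaloisField p n) := by
    intro g
    obtain ⟨⟨u, k⟩, rfl, -⟩ := hH.existsUnique g
    obtain ⟨a, σ, h⟩ := he k
    refine ⟨a, e (EA.of hV u u.2), σ, fun x => ?_⟩
    obtain ⟨v, rfl⟩ := e.surjective x
    rw [← h, ← map_add]
    change e (β.symm (((u : M) * k) • β (e.symm (e v)))) = _
    rw [e.symm_apply_apply, e.apply_eq_iff_eq, Equiv.symm_apply_eq, hβ, hβ, add_comm, EA.val_add,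
      hρ, EA.val_of, MulAction.Quotient.smul_mk, QuotientGroup.eq]
    simp [mul_assoc]
  let f := f₀.codRestrict _ hmem
  have hf : Function.Injective f := (MonoidHom.injective_codRestrict _ _ _).2 hf₀
  have hM : Nat.card M = p ^ n * Nat.card H := by rw [← hH.card_mul_card, hc]
  have hS := card_semiaffine (F := GaloisField p n)
  obtain ⟨g1, g2, g3⟩ := card_galois p n (by omega)
  rw [g1, g2, g3] at hS
  have hdv := Subgroup.card_dvd_of_injective f hf
  have : Finite (semiaffineGroup (GaloisField p n)) := inferInstance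
  have iso : Nat.card M = Nat.card (semiaffineGroup (GaloisField p n)) →
      Nonempty (M ≃* semiaffineGroup (GaloisField p n)) := fun h =>
    ⟨MulEquiv.ofBijective f ((Nat.bijective_iff_injective_and_card f).2 ⟨hf, h⟩)⟩
  rw [hS, hM] at hdv iso
  rcases h35 with rfl | ⟨rfl, rfl⟩
  · refine Or.inl ⟨rfl, ⟨f, hf⟩, ?_⟩
    rintro rfl
    obtain rfl : N = 7 := by omega
    obtain ⟨k, hk⟩ := hd
    rw [hk] at hdv iso hM
    have h3 : k ∣ 3 := Nat.dvd_of_mul_dvd_mul_left (by norm_num : 0 < 56) (by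
      convert hdv using 1 <;> ring)
    rcases (Nat.dvd_prime Nat.prime_three).1 h3 with rfl | rfl
    · right
      have h4 : Nat.card f.range = 56 := by
        rw [← Nat.card_congr (MonoidHom.ofInjective hf).toEquiv, hM]; norm_num
      have h5 := le_affine_of_coprime (H := f.range) (by rw [h4, g3]; norm_num)
      have h6 : f.range = (affineGroup _).subgroupOf _ := Subgroup.eq_of_le_of_card_ge h5 (by
        rw [Nat.card_congr (subgroupOfEquivOfLe affine_le).toEquiv, card_affine, g1, g2, h4]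
        norm_num)
      exact ⟨(MonoidHom.ofInjective hf).trans ((MulEquiv.subgroupCongr h6).trans
        (subgroupOfEquivOfLe affine_le))⟩
    · exact Or.inl (iso (by norm_num))
  · obtain rfl : N = 155 := by omega
    obtain ⟨k, hk⟩ := hd
    rw [hk] at hdv iso
    have h3 : k ∣ 1 := Nat.dvd_of_mul_dvd_mul_left (by norm_num : 0 < 4960) (by
      convert hdv using 1 <;> ring)
    obtain rfl := Nat.dvd_one.1 h3
    exact Or.inr ⟨rfl, rfl, iso (by norm_num)⟩

omit hp [Finite M] in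
theorem exists_lift {Q : Type*} [Group Q] (f : M →* Q) {P : Subgroup M} (h : P ⊓ f.ker = ⊥)
    {U : Subgroup Q} (hU : U ≤ P.map f) : ∃ U₀ ≤ P, U₀.map f = U ∧ Nat.card U₀ = Nat.card U := by
  have h1 : (P ⊓ U.comap f).map f = U := by
    refine le_antisymm (map_le_iff_le_comap.2 inf_le_right) fun u hu => ?_
    obtain ⟨x, hx, rfl⟩ := hU hu
    exact ⟨x, ⟨hx, hu⟩, rfl⟩
  refine ⟨P ⊓ U.comap f, inf_le_left, h1, ?_⟩
  have := Grp.card_map_mul_card_inf_ker f (P ⊓ U.comap f)
  rwa [h1, inf_right_comm, h, bot_inf_eq, Subgroup.card_bot, mul_one, eq_comm] at this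

theorem fusion_ab {P U W : Subgroup M} (hP : IsSyl p P ⊤) (hab : P ≤ 𝐂[P]) (hU : U ≤ P)
    (hW : W ≤ P) {g : M} (h : W = cj(g, U)) : ∃ n ∈ 𝐍[P], W = cj(n, U) := by
  have h1 : IsSyl p P 𝐂[W] := hP.mono (hab.trans (centralizer_anti hW)) le_top
  have h2 : IsSyl p cj(g, P) 𝐂[W] := (hP.cj_of_mem (mem_top g)).mono (by
    rw [h, centralizer_cj]; exact cj_mono g (hab.trans (centralizer_anti hU))) le_top
  obtain ⟨c, hc, e⟩ := h1.exists_cj_eq h2
  exact ⟨c * g, cj_eq_iff.1 (by rw [cj_mul, e]), by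
    rw [cj_mul, ← h, cj_of_mem_normalizer (centralizer_le_normalizer' _ hc)]⟩

theorem PConj.aff (hC : PConj p M) {P : Subgroup M} (hP : IsSyl p P ⊤) {n : ℕ} (hn : 3 ≤ n)
    (hel : IsElementaryAbelian p P) (hc : Nat.card P = p ^ n)
    [Group.IsSolvable (↥𝐍[P] ⧸ pPrimeCore p ↥𝐍[P])] : AffOK p n (↥𝐍[P] ⧸ pPrimeCore p ↥𝐍[P]) := by
  have hPN : (P.subgroupOf 𝐍[P]).Normal := normal_in_normalizer
  let f := QuotientGroup.mk' (pPrimeCore p ↥𝐍[P])
  have hf : Function.Surjective f := QuotientGroup.mk'_surjective _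
  have hk : P.subgroupOf 𝐍[P] ⊓ f.ker = ⊥ := by
    rw [QuotientGroup.ker_mk']
    exact Grp.inf_eq_bot_of_isPGroup_of_coprime (Amb.isPGroup_subgroupOf hP.pgrp _)
      (Grp.pPrimeCore_coprime p _)
  have := hPN.map f hf
  refine aff_main (V := (P.subgroupOf 𝐍[P]).map f) ⟨⟨⟨?_⟩⟩, ?_⟩ hn ?_
    (fun h => (hP.mono le_normalizer le_top).not_dvd_relIndex (h.trans (index_map_dvd _ hf)))
    (Grp.pPrimeCore_quotient_pPrimeCore p _) fun U W hU hW h => ?_
  · rintro ⟨_, a, ha, rfl⟩ ⟨_, b, hb, rfl⟩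
    exact Subtype.ext ((map_mul f a b).symm.trans
      ((congrArg f (Subtype.ext (elemAb_comm hel ha hb))).trans (map_mul f b a)))
  · rintro _ ⟨a, ha, rfl⟩
    rw [← map_pow, show a ^ p = 1 from Subtype.ext (hel.2 a ha), map_one]
  · have := Grp.card_map_mul_card_inf_ker f (P.subgroupOf 𝐍[P])
    rwa [hk, Subgroup.card_bot, mul_one,
      Nat.card_congr (subgroupOfEquivOfLe le_normalizer).toEquiv, hc] at this
  · obtain ⟨U, hU0, rfl, hU'⟩ := exists_lift f hk hU
    obtain ⟨W, hW0, rfl, hW'⟩ := exists_lift f hk hW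
    have h1 : U.map 𝐍[P].subtype ≤ P := map_le_iff_le_comap.2 hU0
    have h2 : W.map 𝐍[P].subtype ≤ P := map_le_iff_le_comap.2 hW0
    obtain ⟨g, hg⟩ := hC _ _ (hP.pgrp.to_le h1) (hP.pgrp.to_le h2) (by
      rw [card_map_of_injective 𝐍[P].subtype_injective,
        card_map_of_injective 𝐍[P].subtype_injective, hU', hW', h])
    obtain ⟨x, hx, e⟩ := fusion_ab hP (elemAb_le_centralizer hel) h1 h2 hg
    refine ⟨f ⟨x, hx⟩, ?_⟩
    rw [← map_cj]
    congr 1
    apply map_injective 𝐍[P].subtype_injective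
    rw [map_subtype_cj, e]

end Cfsg.Agent.EqOrd
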