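import Cfsg.Agent.EqOrd.Aff
import Cfsg.Agent.S4020
import Cfsg.Agent.S0205
import Cfsg.Agent.Grp.Card

/-! Groups in which `p`-subgroups of equal order are conjugate: reductions. -/

set_option autoImplicit false
set_option linter.unusedSectionVars false
set_option linter.unusedVariables false

namespace Cfsg.Agent.EqOrd

open Cfsg Subgroup PLocal PLocal.Amb

variable {G : Type*} [Group G] [Finite G] {p : ℕ}

/-- for all primes -/
def DAll (G : Type*) [Group G] : Prop := ∀ p : ℕ, p.Prime → PConj p G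

theorem PConj.of_surjective [Fact p.Prime] (h : PConj p G) {Q : Type*} [Group Q] (f : G →* Q)
    (hf : Function.Surjective f) : PConj p Q := by
  have : Finite Q := Finite.of_surjective f hf
  intro H K hH hK hc
  obtain ⟨T, hT⟩ := exists_isSyl p (H.comap f)
  obtain ⟨S, hS⟩ := exists_isSyl p (K.comap f)
  obtain ⟨g, hg⟩ := h T S hT.pgrp hS.pgrp (by
    rw [hT.card_eq_pow, hS.card_eq_pow, Grp.card_comap_of_surjective f hf,
      Grp.card_comap_of_surjective f hf, hc])
  have h1 := hT.map f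
  have h2 := hS.map f
  rw [map_comap_eq_self_of_surjective hf] at h1 h2
  exact ⟨f g, by rw [h1.eq hH h1.le le_rfl, h2.eq hK h2.le le_rfl, hg, map_cj]⟩

theorem DAll.of_surjective (h : DAll G) {Q : Type*} [Group Q] (f : G →* Q)
    (hf : Function.Surjective f) : DAll Q := fun p hp =>
  have := Fact.mk hp
  (h p hp).of_surjective f hf

theorem PConj.exists_conj [hp : Fact p.Prime] (h : PConj p G) {x y : G} (hx : orderOf x = p)
    (hy : orderOf y = p) : ∃ g, zpowers y = cj(g, zpowers x) :=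
  h _ _ (IsPGroup.of_card (n := 1) (by rw [Nat.card_zpowers, hx, pow_one]))
    (IsPGroup.of_card (n := 1) (by rw [Nat.card_zpowers, hy, pow_one]))
    (by rw [Nat.card_zpowers, Nat.card_zpowers, hx, hy])

theorem PConj.mem [hp : Fact p.Prime] (h : PConj p G) (N : Subgroup G) [N.Normal]
    (hd : p ∣ Nat.card N) {x : G} (hx : x ^ p = 1) : x ∈ N := by
  by_cases h1 : x = 1
  · exact h1 ▸ N.one_mem
  obtain ⟨y, hy⟩ := exists_prime_orderOf_dvd_card' (G := N) p hd
  obtain ⟨g, hg⟩ := h.exists_conj ((orderOf_coe y).trans hy) (orderOf_eq_prime hx h1)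
  exact cj_le_of_mem_normalizer (zpowers_le.2 y.2) (by rw [normalizer_eq_top]; trivial)
    (hg ▸ mem_zpowers x)

theorem PConj.conj_two (h : PConj 2 G) {s t : G} (hs : orderOf s = 2) (ht : orderOf t = 2) :
    ∃ g, g * t * g⁻¹ = s := by
  obtain ⟨g, hg⟩ := h.exists_conj ht hs
  obtain ⟨y, ⟨k, rfl⟩, e⟩ := mem_cj_iff_exists.1 (hg ▸ mem_zpowers s)
  refine ⟨g, ?_⟩
  rw [← e]
  have h1 : t ^ k = t ^ (k % 2) := by rw [← zpow_mod_orderOf, ht]; rfl
  rcases Int.emod_two_eq_zero_or_one k with h0 | h0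
  · simp only [h1, h0, zpow_zero, mul_one, mul_inv_cancel] at e
    rw [← e, orderOf_one] at hs
    omega
  · simp only [h1, h0, zpow_one]

theorem DAll.not_dvd_index (h : DAll G) [hp : Fact p.Prime] (h2 : p ≠ 2)
    (hd : p ∣ Nat.card (_root_.commutator G)) : ¬ p ∣ (_root_.commutator G).index := by
  obtain ⟨P⟩ : Nonempty (Sylow p G) := inferInstance
  rcases S4020.result h P with h1 | h1 | ⟨⟨e⟩⟩
  · exact (P.not_dvd_card_commutator_or_not_dvd_index_commutator).resolve_left (not_not.2 hd)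
  · exact fun h3 => P.not_dvd_index (h3.trans (index_dvd_of_le fun x hx =>
      (h p hp.out).mem _ hd (h1.2 x hx)))
  · have h3 := P.card_eq_multiplicity
    rw [Nat.card_congr e.toEquiv, Nat.card_eq_fintype_card, QuaternionGroup.card] at h3
    have h4 : 2 ∣ p ^ (Nat.card G).factorization p := h3 ▸ by norm_num
    exact absurd ((Nat.prime_dvd_prime_iff_eq Nat.prime_two hp.out).1
      (Nat.prime_two.dvd_of_dvd_pow h4)).symm h2

theorem simple_of_charSimple (hch : ∀ K : Subgroup G, K.Characteristic → K = ⊥ ∨ K = ⊤)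
    (hns : ¬ Group.IsSolvable G)
    (hinv : ∀ s t : G, orderOf s = 2 → orderOf t = 2 → ∃ φ : MulAut G, φ t = s) :
    IsSimpleGroup G := by
  have : Nontrivial G := by
    by_contra h
    rw [not_nontrivial_iff_subsingleton] at h
    exact hns inferInstance
  refine ⟨fun K hK => or_iff_not_imp_left.2 fun h0 => ?_⟩
  obtain ⟨L, hL, hL0, hLK, hmin⟩ := Grp.exists_minNormal_le K h0
  have hLs : ¬ Group.IsSolvable L := fun hs => by
    obtain ⟨-, r, hr, h⟩ := Grp.minNormal_elementaryAbelian L hL0 hmin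
    have := Fact.mk hr
    have h1 := Grp.le_pCore hL (Grp.isPGroup_of_pow_eq_one h)
    rcases hch (pCore r G) inferInstance with h2 | h2
    · exact hL0 (eq_bot_iff.2 (h2 ▸ h1))
    · have := (Grp.pCore_eq_top_iff.1 h2).isNilpotent
      exact hns inferInstance
  obtain ⟨t, ht⟩ := exists_prime_orderOf_dvd_card' (G := L) 2
    (even_iff_two_dvd.1 (Nat.not_odd_iff_even.1 fun h => hLs (S0205.result h)))
  rw [← orderOf_coe] at ht
  have ht1 : (t : G) ≠ 1 := fun h => by simp [h] at ht
  have ht2 : (t : G) * t = 1 := by rw [← sq, ← ht, pow_orderOf_eq_one]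
  have hcm : ∀ φ : MulAut G, (L ≤ L.comap φ.toMonoidHom) ∨
      (L ⊓ L.comap φ.toMonoidHom = ⊥ ∧ ∀ x ∈ L, ∀ y, φ y ∈ L → x * y = y * x) := fun φ => by
    rcases hmin (L ⊓ L.comap φ.toMonoidHom) inferInstance inf_le_left with h | h
    · exact Or.inr ⟨h, fun x hx y hy =>
        (Grp.le_centralizer_of_normal_of_inf_eq_bot L _ h hx y hy).symm⟩
    · exact Or.inl (inf_eq_left.1 h)
  have hZ : ¬ ∀ x ∈ L, x * t = t * x := fun h => by
    rcases hmin (L ⊓ 𝐂[L]) inferInstance inf_le_left with h1 | h1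
    · exact ht1 (mem_bot.1 (h1 ▸ (⟨t.2, h⟩ : (t : G) ∈ L ⊓ 𝐂[L])))
    · exact hLs (Group.isSolvable_of_comm fun a b =>
        Subtype.ext ((inf_eq_left.1 h1) b.2 a a.2))
  have hc : L.Characteristic := characteristic_iff_le_comap.2 fun φ => by
    refine (hcm φ).resolve_right fun ⟨h1, h2⟩ => ?_
    have hu : φ (φ.symm t) ∈ L := by simp
    have hu1 : φ.symm t ∉ L := fun h => ht1 (by
      have : φ.symm t ∈ L ⊓ L.comap φ.toMonoidHom := ⟨h, hu⟩
      rw [h1, mem_bot] at this
      simpa using this)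
    have hu2 : φ.symm t * φ.symm t = 1 := by rw [← map_mul, ht2, map_one]
    obtain ⟨ψ, hψ⟩ := hinv t (t * φ.symm t) ht (orderOf_eq_prime (by
      rw [(show Commute (t : G) (φ.symm t) from h2 t t.2 _ hu).mul_pow, sq, sq, ht2, hu2, one_mul])
      fun h => hu1 (by rw [eq_inv_of_mul_eq_one_right h]; exact L.inv_mem t.2))
    rcases hcm ψ with h3 | ⟨-, h3⟩
    · have h4 : L.map ψ.toMonoidHom = L := eq_of_le_of_card_ge (map_le_iff_le_comap.2 h3)
        (Subgroup.card_map_of_injective ψ.injective).ge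
      obtain ⟨y, hy, e⟩ : (t : G) ∈ L.map ψ.toMonoidHom := h4.symm ▸ t.2
      obtain rfl : y = t * φ.symm t := ψ.injective (e.trans hψ.symm)
      exact hu1 ((L.mul_mem_cancel_left t.2).1 hy)
    · refine hZ fun x hx => mul_right_cancel (b := φ.symm t) ?_
      rw [mul_assoc, h3 x hx _ (hψ.symm ▸ t.2), mul_assoc, mul_assoc, h2 x hx _ hu]
  exact top_le_iff.1 (((hch L hc).resolve_left hL0).symm.le.trans hLK)

theorem conjNormal_injective (N : Subgroup G) [N.Normal] (h : 𝐂[N] = ⊥) :
    Function.Injective (MulAut.conjNormal : G →* MulAut N) := by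
  rw [← MonoidHom.ker_eq_bot_iff, eq_bot_iff, ← h]
  intro g hg x hx
  have := congrArg (fun φ : MulAut N => (φ ⟨x, hx⟩ : G)) (MonoidHom.mem_ker.1 hg)
  exact (mul_inv_eq_iff_eq_mul.1 this).symm

theorem commutator_eq_of_prime (N : Subgroup G) [N.Normal] [IsSimpleGroup N]
    (hna : ¬ IsMulCommutative N) [Fact p.Prime] (h : N.index = p) : _root_.commutator G = N := by
  have : IsCyclic (G ⧸ N) := isCyclic_of_prime_card h
  refine le_antisymm (Subgroup.Normal.quotient_commutative_iff_commutator_le.1 inferInstance) ?_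
  rcases (inferInstance : (_root_.commutator N).Normal).eq_bot_or_eq_top with h1 | h1
  · exact absurd ((commutator_eq_bot_iff N).1 h1) hna
  · have := congrArg (map N.subtype) h1
    rw [map_subtype_commutator, ← MonoidHom.range_eq_map, range_subtype] at this
    exact this ▸ commutator_mono le_top le_top

end Cfsg.Agent.EqOrd
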