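import Cfsg.Agent.EqOrd.Semi
import Cfsg.Agent.S3360
import Cfsg.Agent.Class.Elus.Lin
import Cfsg.Agent.Solv.Hall

/-! Solvable linear groups over a prime field, transitive on lines and on planes. -/

set_option autoImplicit false

namespace Cfsg.Agent.EqOrd

open Cfsg Module Perm.SemiLin
open scoped Pointwise

theorem pow_big (m : ℕ) : m + 6 < 2 ^ (m + 3) := by
  induction m with
  | zero => norm_num
  | succ m ih => rw [show m + 1 + 3 = m + 3 + 1 by ring, pow_succ]; omega

theorem arith {p n : ℕ} (hp : 2 ≤ p) (hn : 3 ≤ n) (h : p ^ (n - 1) - 1 ∣ n * (p ^ 2 - 1)) :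
    n = 3 ∨ (n = 5 ∧ p = 2) := by
  obtain ⟨a, rfl⟩ : ∃ a, p = a + 2 := ⟨p - 2, by omega⟩
  have e2 : (a + 2) ^ 2 - 1 = (a + 1) * (a + 3) := by
    rw [Nat.sub_eq_iff_eq_add (Nat.one_le_pow _ _ (by omega))]; ring
  rw [e2] at h
  by_cases h3 : n = 3
  · exact Or.inl h3
  by_cases h4 : n = 4
  · subst h4
    have e3 : (a + 2) ^ (4 - 1) - 1 = (a + 1) * (a * a + 5 * a + 7) := by
      rw [Nat.sub_eq_iff_eq_add (Nat.one_le_pow _ _ (by omega))]; ring
    rw [e3, mul_left_comm] at h
    have h' := Nat.dvd_of_mul_dvd_mul_left (by omega) h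
    have h5 : a * a + 5 * a + 7 ∣ 4 := by
      have := (Nat.dvd_sub (Dvd.intro_left 4 rfl) (h'.mul_left (a + 2)))
      rwa [show 4 * (a * a + 5 * a + 7) - (a + 2) * (4 * (a + 3)) = 4 by
        rw [Nat.sub_eq_iff_eq_add (by nlinarith)]; ring] at this
    have := Nat.le_of_dvd (by norm_num) h5
    omega
  by_cases h5 : n = 5
  · subst h5
    have e3 : (a + 2) ^ (5 - 1) - 1 = (a * a + 4 * a + 5) * ((a + 1) * (a + 3)) := by
      rw [Nat.sub_eq_iff_eq_add (Nat.one_le_pow _ _ (by omega))]; ring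
    rw [e3] at h
    have := Nat.le_of_dvd (by norm_num) (Nat.dvd_of_mul_dvd_mul_right (by positivity) h)
    exact Or.inr ⟨rfl, by omega⟩
  exfalso
  obtain ⟨m, rfl⟩ : ∃ m, n = m + 6 := ⟨n - 6, by omega⟩
  have h1 := Nat.le_of_dvd (by positivity) h
  have h2 : 2 ^ (m + 3) ≤ (a + 2) ^ (m + 3) := Nat.pow_le_pow_left (by omega) _
  have h6 := pow_big m
  rw [show m + 6 - 1 = m + 3 + 2 by omega, pow_add] at h1
  generalize (a + 2) ^ (m + 3) = x at h1 h2
  have h7 : (m + 7) * (a + 2) ^ 2 ≤ x * (a + 2) ^ 2 := Nat.mul_le_mul_right _ (by omega)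
  have h8 : x * (a + 2) ^ 2 ≤ (m + 6) * ((a + 1) * (a + 3)) + 1 := by omega
  nlinarith

variable {p : ℕ} [Fact p.Prime] {V : Type*} [AddCommGroup V] [Module (ZMod p) V] [Finite V]

theorem no_81 {V : Type*} [AddCommGroup V] [Module (ZMod 3) V] [Finite V] (hV : Nat.card V = 3 ^ 4)
    {G : Type*} [Group G] [Finite G] [Group.IsSolvable G] (ρ : G →* End (ZMod 3) V)
    (hρ : Function.Injective ρ) (h : 65 ∣ Nat.card G) : False := by
  obtain ⟨m, hm⟩ := h
  have h1 := card_dvd_card_GL hρ hV
  have h2 : m ∣ 2 ^ 9 * 3 ^ 6 := by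
    rw [hm] at h1
    exact Nat.dvd_of_mul_dvd_mul_left (by norm_num : 0 < 65) (h1.trans (by decide))
  obtain ⟨K, hK⟩ := Solv.exists_hall G inferInstance 65 m hm
    (Nat.Coprime.coprime_dvd_right h2 (by norm_num))
  have : Fact (Nat.Prime 5) := ⟨by norm_num⟩
  have : Fact (Nat.Prime 13) := ⟨by norm_num⟩
  obtain ⟨x, hx⟩ := exists_prime_orderOf_dvd_card' (G := K) 5 (by rw [hK]; norm_num)
  obtain ⟨y, hy⟩ := exists_prime_orderOf_dvd_card' (G := K) 13 (by rw [hK]; norm_num)
  have hn : (Subgroup.zpowers y).Normal := Subgroup.normal_of_index_eq_minFac_card (by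
    have := (Subgroup.zpowers y).card_mul_index
    rw [Nat.card_zpowers, hy, hK] at this
    rw [hK, show Nat.minFac 65 = 5 by norm_num]
    omega)
  let σ := ρ.comp K.subtype
  have hσ : Function.Injective σ := hρ.comp K.subtype_injective
  have hfix : ∀ z ∈ Subgroup.zpowers y, ∀ v, σ y v = v → σ z v = v := by
    intro z hz v hv
    obtain ⟨k, rfl⟩ := mem_powers_iff_mem_zpowers.2 hz
    induction k with
    | zero => simp
    | succ k ih =>
      simp only [pow_succ, map_mul, End.mul_apply, hv]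
      exact ih (pow_mem (Subgroup.mem_zpowers y) k)
  rcases irr_of_ppd (ℓ := 5) hV ⟨by norm_num, by norm_num, fun k h1 h2 => by
      interval_cases k <;> norm_num⟩ (pow_eq_one_of_orderOf hx)
      (ne_one_of_orderOf hσ (by norm_num) hx) (LinearMap.ker (σ y - 1)) (fun v hv => by
        have hv' : σ y v = v := by simpa [sub_eq_zero] using hv
        have := hfix _ (hn.conj_mem' y (Subgroup.mem_zpowers y) x) v hv'
        rw [LinearMap.mem_ker, LinearMap.sub_apply, End.one_apply, sub_eq_zero, ← End.mul_apply,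
          ← map_mul, show y * x = x * (x⁻¹ * y * x) by group, map_mul, End.mul_apply, this])
    with h0 | h0
  · have := card_modEq_fix (ℓ := 13) (by norm_num) (pow_eq_one_of_orderOf (ρ := σ) hy) ⊤
      (fun _ _ => trivial)
    rw [h0, inf_bot_eq, Nat.card_congr Submodule.topEquiv.toEquiv, hV, Nat.card_unique] at this
    exact absurd this (by decide)
  · exact ne_one_of_orderOf hσ (by norm_num) hy (sub_eq_zero.1 (LinearMap.ker_eq_top.1 h0))

theorem card_planes {n : ℕ} (hn : 3 ≤ n) (hV : Nat.card V = p ^ n) :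
    Nat.card {U : Submodule (ZMod p) V // finrank (ZMod p) U = 2} * ((p - 1) * (p ^ 2 - 1)) =
      (p ^ (n - 1) - 1) * (p ^ n - 1) := by
  have h := Class.Elus.card_subspaces_mul (F := ZMod p) (V := V) (m := 2)
    (by rw [finrank_eq_of_card hV]; omega)
  rw [finrank_eq_of_card hV, ZMod.card] at h
  simp only [Class.Elus.qf, Finset.prod_range_succ, Finset.prod_range_zero] at h
  rw [show n - 2 + 1 + 1 = n by omega, show n - 2 + 0 + 1 = n - 1 by omega] at h
  simpa using h

theorem card_planes_dvd {G : Type*} [Group G] [Finite G] (ρ : G →* (V ≃ₗ[ZMod p] V))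
    (h2 : ∀ U W : Submodule (ZMod p) V, finrank (ZMod p) U = 2 → finrank (ZMod p) W = 2 →
      ∃ g, U.map (ρ g : V →ₗ[ZMod p] V) = W) {n : ℕ} (hn : 3 ≤ n) (hV : Nat.card V = p ^ n)
    (Z : Subgroup G) (hZ : ∀ z ∈ Z, ∀ U : Submodule (ZMod p) V, ∀ v ∈ U, ρ z v ∈ U) :
    Nat.card {U : Submodule (ZMod p) V // finrank (ZMod p) U = 2} * Nat.card Z ∣ Nat.card G := by
  let _ : MulAction G (Submodule (ZMod p) V) :=
    { smul := fun g U => U.map (ρ g : V →ₗ[ZMod p] V)
      one_smul := fun U => by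
        change U.map _ = U
        rw [map_one]; exact Submodule.map_id U
      mul_smul := fun g h U => by
        change U.map _ = (U.map _).map _
        rw [map_mul, ← Submodule.map_comp]; rfl }
  have hp : p.Prime := Fact.out
  obtain ⟨⟨U, hU⟩⟩ : Nonempty {U : Submodule (ZMod p) V // finrank (ZMod p) U = 2} := by
    refine (Nat.card_ne_zero.1 fun h => ?_).1
    have h3 := card_planes hn hV
    have h4 := Nat.one_lt_pow (by omega : n ≠ 0) hp.one_lt
    have h5 := Nat.one_lt_pow (by omega : n - 1 ≠ 0) hp.one_lt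
    rw [h, zero_mul, eq_comm, mul_eq_zero] at h3
    omega
  have e : MulAction.orbit G U = {W : Submodule (ZMod p) V | finrank (ZMod p) W = 2} := by
    ext W
    constructor
    · rintro ⟨g, rfl⟩
      exact (LinearEquiv.finrank_map_eq (ρ g) U).trans hU
    · exact fun h => h2 U W hU h
  have h1 := MulAction.index_stabilizer G U
  rw [e] at h1
  rw [← (MulAction.stabilizer G U).index_mul_card, h1]
  refine Nat.mul_dvd_mul_left _ (Subgroup.card_dvd_of_le fun z hz => ?_)
  refine Submodule.eq_of_le_of_finrank_eq ?_ (LinearEquiv.finrank_map_eq (ρ z) U)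
  rintro _ ⟨v, hv, rfl⟩
  exact hZ z hz U v hv

theorem lin_main {G : Type*} [Group G] [Finite G] [Group.IsSolvable G]
    (ρ : G →* (V ≃ₗ[ZMod p] V)) {n : ℕ} (hn : 3 ≤ n) (hV : Nat.card V = p ^ n)
    (h1 : ∀ v w : V, v ≠ 0 → w ≠ 0 → ∃ (g : G) (c : (ZMod p)ˣ), c • ρ g v = w)
    (h2 : ∀ U W : Submodule (ZMod p) V, finrank (ZMod p) U = 2 → finrank (ZMod p) W = 2 →
      ∃ g, U.map (ρ g : V →ₗ[ZMod p] V) = W) :
    (n = 3 ∨ (n = 5 ∧ p = 2)) ∧ ∃ e : V ≃+ GaloisField p n, ∀ g : G,
      ∃ (a : (GaloisField p n)ˣ) (σ : GaloisField p n ≃+* GaloisField p n),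
        ∀ v, e (ρ g v) = a * σ (e v) := by
  have hp : p.Prime := Fact.out
  have := nontrivial_of_card (by omega) hV
  let s : (ZMod p)ˣ →* (V ≃ₗ[ZMod p] V) := DistribMulAction.toModuleAut (ZMod p) V
  have hs : ∀ c v, s c v = c • v := fun _ _ => rfl
  let Φ : (ZMod p)ˣ × G →* (V ≃ₗ[ZMod p] V) := s.noncommCoprod ρ fun c g =>
    LinearEquiv.ext fun v => by
      simp only [LinearEquiv.mul_apply, hs, Units.smul_def, map_smul]
  have hΦ : ∀ c g v, Φ (c, g) v = c • ρ g v := fun _ _ _ => rfl
  have : Finite Φ.range := Finite.of_surjective _ Φ.rangeRestrict_surjective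
  have hsol : Group.IsSolvable Φ.range :=
    Group.isSolvable_of_surjective Φ.rangeRestrict_surjective
  have hsinj : Function.Injective (Φ.rangeRestrict.comp (MonoidHom.inl _ _)) := by
    intro c d h
    obtain ⟨v, hv⟩ := exists_ne (0 : V)
    have h' : Φ (c, 1) v = Φ (d, 1) v := congrArg (fun x : Φ.range => x.1 v) h
    rw [hΦ, hΦ, map_one] at h'
    exact Units.ext (smul_left_injective (ZMod p) hv h')
  have hd := card_planes_dvd Φ.range.subtype (fun U W hU hW => by
      obtain ⟨g, hg⟩ := h2 U W hU hW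
      refine ⟨Φ.rangeRestrict (1, g), hg ▸ ?_⟩
      congr 1
      exact LinearMap.ext fun v => (hΦ 1 g v).trans (one_smul _ _)) hn hV
    (Φ.rangeRestrict.comp (MonoidHom.inl _ _)).range (by
      rintro _ ⟨c, rfl⟩ U v hv
      change Φ (c, 1) v ∈ U
      rw [hΦ, map_one]
      exact U.smul_mem _ hv)
  rw [← Nat.card_congr (MonoidHom.ofInjective hsinj).toEquiv, Nat.card_units, Nat.card_zmod] at hd
  have hc := card_planes hn hV
  rcases S3360.result p hsol Φ.range.subtype Φ.range.subtype_injective (fun v w hv hw => by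
      obtain ⟨g, c, h⟩ := h1 v w hv hw
      exact ⟨Φ.rangeRestrict (c, g), h⟩) with ⟨F, _, _, e, he⟩ | h
  · have hF : Nat.card F = p ^ n := by rw [← hV, Nat.card_congr e.toEquiv]
    have : CharP F p := charP_of_card_eq_prime_pow (by rw [← Nat.card_eq_fintype_card, hF])
    let _ := ZMod.algebra F p
    let ι : F ≃+* GaloisField p n := (GaloisField.algEquivGaloisField p n hF).toRingEquiv
    have he' : ∀ g : Φ.range, ∃ (a : (GaloisField p n)ˣ)
        (σ : GaloisField p n ≃+* GaloisField p n),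
        ∀ v, (e.trans ι.toAddEquiv) (g.1 v) = a * σ ((e.trans ι.toAddEquiv) v) := by
      intro g
      obtain ⟨a, σ, h⟩ := he g
      have ha : ι a ≠ 0 := by
        obtain ⟨v, hv⟩ := exists_ne (0 : V)
        rw [Ne, ι.map_eq_zero_iff]
        rintro rfl
        have := h v
        rw [zero_mul, e.map_eq_zero_iff, LinearEquiv.map_eq_zero_iff] at this
        exact hv this
      refine ⟨Units.mk0 _ ha, ι.symm.trans (σ.trans ι), fun v => ?_⟩
      have := congrArg ι (h v)
      simpa using this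
    generalize e.trans ι.toAddEquiv = e' at he'
    refine ⟨?_, e', fun g => ?_⟩
    · let ψ : Φ.range →* MulAction.stabilizer (semiaffineGroup (GaloisField p n))
          (0 : GaloisField p n) := MonoidHom.mk' (fun g => ⟨⟨e'.toEquiv.permCongr g.1.toEquiv, by
            obtain ⟨a, σ, h⟩ := he' g
            exact ⟨a, 0, σ, fun x => by simpa using h (e'.symm x)⟩⟩, by
            change e' (g.1 (e'.symm 0)) = 0
            simp⟩) fun g h => Subtype.ext (Subtype.ext (Equiv.ext fun x => by simp))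
      have hψ : Function.Injective ψ := fun g h hgh => Subtype.ext (LinearEquiv.ext fun v => by
        have := congrArg (fun x : MulAction.stabilizer (semiaffineGroup (GaloisField p n))
          (0 : GaloisField p n) => x.1.1 (e' v)) hgh
        simpa [ψ] using this)
      have h3 := hd.trans (Subgroup.card_dvd_of_injective ψ hψ)
      rw [card_stab, (card_galois p n (by omega)).2.1, (card_galois p n (by omega)).2.2] at h3
      refine arith hp.two_le hn (Nat.dvd_of_mul_dvd_mul_right (k := p ^ n - 1) ?_ ?_)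
      · have := Nat.one_lt_pow (by omega : n ≠ 0) hp.one_lt
        omega
      · rw [← hc, ← mul_assoc, mul_right_comm n, mul_comm n]
        exact Nat.mul_dvd_mul_right h3 _
    · obtain ⟨a, σ, h⟩ := he' (Φ.rangeRestrict (1, g))
      refine ⟨a, σ, fun v => ?_⟩
      rw [← h]
      exact congrArg e' ((hΦ 1 g v).trans (one_smul _ _)).symm
  · exfalso
    have hp2 := hp.two_le
    have h8 : p ^ 3 ≤ p ^ n := Nat.pow_le_pow_right (by omega) hn
    have key : ∀ r : ℕ, r.Prime → p ^ n = r ^ 2 → False := fun r hr h => by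
      obtain rfl : p = r := (Nat.prime_dvd_prime_iff_eq hp hr).1
        (hp.dvd_of_dvd_pow (h ▸ dvd_pow_self p (by omega)))
      have := Nat.pow_right_injective hp2 h
      omega
    rw [hV] at h
    simp only [Set.mem_insert_iff, Set.mem_singleton_iff] at h
    rcases h with h | h | h | h | h | h
    · exact key 3 (by norm_num) h
    · exact key 5 (by norm_num) h
    · exact key 7 (by norm_num) h
    · exact key 11 (by norm_num) h
    · exact key 23 (by norm_num) h
    obtain rfl : p = 3 := (Nat.prime_dvd_prime_iff_eq hp Nat.prime_three).1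
      (hp.dvd_of_dvd_pow (n := 4) (by
        rw [show 3 ^ 4 = p ^ n by rw [h]; norm_num]; exact dvd_pow_self p (by omega)))
    obtain rfl : n = 4 := Nat.pow_right_injective hp2 h
    refine no_81 hV (G := Φ.range)
      { toFun := fun g => (g.1 : V →ₗ[ZMod 3] V), map_one' := rfl, map_mul' := fun _ _ => rfl }
      (fun a b h => Subtype.ext (LinearEquiv.toLinearMap_injective h)) (Dvd.dvd.trans ?_ hd)
    norm_num at hc ⊢
    omega

end Cfsg.Agent.EqOrd
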