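import Mathlib
import Cfsg.Prelude.Def_Perm
import Cfsg.Agent.KSG.AutPkg

/-! Orders of the one-dimensional affine and semi-affine groups. -/

set_option autoImplicit false

namespace Cfsg.Agent.EqOrd

open Cfsg

variable {F : Type*} [Field F]

/-- the permutation `x ↦ a * σ x + b` -/
def sa (a : Fˣ) (b : F) (σ : F ≃+* F) : Equiv.Perm F :=
  (σ.toEquiv.trans (Equiv.mulLeft₀ (a : F) a.ne_zero)).trans (Equiv.addRight b)

@[simp] theorem sa_apply (a : Fˣ) (b : F) (σ : F ≃+* F) (x : F) : sa a b σ x = a * σ x + b := rfl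

theorem sa_inj {a a' : Fˣ} {b b' : F} {σ σ' : F ≃+* F}
    (h : ∀ x, (a : F) * σ x + b = a' * σ' x + b') : a = a' ∧ b = b' ∧ σ = σ' := by
  have h0 : b = b' := by simpa using h 0
  subst h0
  have h1 : a = a' := Units.ext (by simpa using h 1)
  subst h1
  exact ⟨rfl, rfl, RingEquiv.ext fun x => by simpa using h x⟩

theorem card_semiaffine : Nat.card (semiaffineGroup F) =
    Nat.card Fˣ * Nat.card F * Nat.card (F ≃+* F) := by
  rw [← Nat.card_prod, ← Nat.card_prod]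
  refine (Nat.card_congr (Equiv.ofBijective (fun z : (Fˣ × F) × (F ≃+* F) =>
    (⟨sa z.1.1 z.1.2 z.2, z.1.1, z.1.2, z.2, fun _ => rfl⟩ : semiaffineGroup F)) ⟨?_, ?_⟩)).symm
  · rintro ⟨⟨a, b⟩, σ⟩ ⟨⟨a', b'⟩, σ'⟩ h
    obtain ⟨rfl, rfl, rfl⟩ := sa_inj (a := a) (a' := a') (b := b) (b' := b') (σ := σ) (σ' := σ')
      fun x => congrArg (fun g : semiaffineGroup F => g.1 x) h
    rfl
  · rintro ⟨g, a, b, σ, h⟩
    exact ⟨((a, b), σ), Subtype.ext (Equiv.ext fun x => (h x).symm)⟩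

theorem card_affine : Nat.card (affineGroup F) = Nat.card Fˣ * Nat.card F := by
  rw [← Nat.card_prod]
  refine (Nat.card_congr (Equiv.ofBijective (fun z : Fˣ × F =>
    (⟨sa z.1 z.2 (RingEquiv.refl F), z.1, z.2, fun _ => rfl⟩ : affineGroup F)) ⟨?_, ?_⟩)).symm
  · rintro ⟨a, b⟩ ⟨a', b'⟩ h
    obtain ⟨rfl, rfl, -⟩ := sa_inj (a := a) (a' := a') (b := b) (b' := b')
      (σ := RingEquiv.refl F) (σ' := RingEquiv.refl F)
      fun x => congrArg (fun g : affineGroup F => g.1 x) h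
    rfl
  · rintro ⟨g, a, b, h⟩
    exact ⟨(a, b), Subtype.ext (Equiv.ext fun x => (h x).symm)⟩

theorem affine_le : affineGroup F ≤ semiaffineGroup F := fun _ ⟨a, b, h⟩ =>
  ⟨a, b, RingEquiv.refl F, h⟩

theorem card_stab : Nat.card (MulAction.stabilizer (semiaffineGroup F) (0 : F)) =
    Nat.card Fˣ * Nat.card (F ≃+* F) := by
  rw [← Nat.card_prod]
  refine (Nat.card_congr (Equiv.ofBijective (fun z : Fˣ × (F ≃+* F) =>
    (⟨⟨sa z.1 0 z.2, z.1, 0, z.2, fun _ => rfl⟩, show sa z.1 0 z.2 0 = 0 by simp⟩ :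
      MulAction.stabilizer (semiaffineGroup F) (0 : F))) ⟨?_, ?_⟩)).symm
  · rintro ⟨a, σ⟩ ⟨a', σ'⟩ h
    obtain ⟨rfl, -, rfl⟩ := sa_inj (a := a) (a' := a') (b := 0) (b' := 0) (σ := σ) (σ' := σ') fun x =>
      congrArg (fun g : MulAction.stabilizer (semiaffineGroup F) (0 : F) => g.1.1 x) h
    rfl
  · rintro ⟨⟨g, a, b, σ, h⟩, h0⟩
    have hb : b = 0 := by
      have : g 0 = 0 := h0
      simpa [h] using this
    subst hb
    exact ⟨(a, σ), Subtype.ext (Subtype.ext (Equiv.ext fun x => (h x).symm))⟩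

theorem exists_autPart : ∃ φ : semiaffineGroup F →* RingAut F, ∀ g, φ g = 1 →
    (g : Equiv.Perm F) ∈ affineGroup F := by
  have e0 : ∀ g : semiaffineGroup F, ∃ (a : Fˣ) (b : F) (σ : F ≃+* F), ∀ x,
      g.1 x = a * σ x + b := fun g => g.2
  choose a b σ e using e0
  refine ⟨MonoidHom.mk' σ fun g h => ?_, fun g hg => ⟨a g, b g, fun x => ?_⟩⟩
  · refine (sa_inj (a := a (g * h)) (b := b (g * h)) (a' := a g * Units.map (σ g : F →* F) (a h))
      (b' := a g * σ g (b h) + b g) fun x => ?_).2.2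
    rw [← e (g * h) x, Subgroup.coe_mul, Equiv.Perm.mul_apply, e g, e h]
    simp only [map_add, map_mul, Units.val_mul, Units.coe_map, MonoidHom.coe_coe]
    change _ = _ * (σ g (σ h x)) + _
    ring
  · rw [e, show σ g = 1 from hg]
    rfl

theorem le_affine_of_coprime {H : Subgroup (semiaffineGroup F)}
    (h : (Nat.card H).Coprime (Nat.card (F ≃+* F))) :
    H ≤ (affineGroup F).subgroupOf (semiaffineGroup F) := by
  obtain ⟨φ, hφ⟩ := exists_autPart (F := F)
  intro g hg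
  refine hφ g (orderOf_eq_one_iff.1 (Nat.eq_one_of_dvd_coprimes h ?_ (orderOf_dvd_natCard _)))
  exact (orderOf_map_dvd φ g).trans (H.orderOf_dvd_natCard hg)

theorem card_galois (p n : ℕ) [Fact p.Prime] (hn : n ≠ 0) :
    Nat.card (GaloisField p n) = p ^ n ∧ Nat.card (GaloisField p n)ˣ = p ^ n - 1 ∧
      Nat.card (GaloisField p n ≃+* GaloisField p n) = n := by
  have h := GaloisField.card p n hn
  let _ := Fintype.ofFinite (GaloisField p n)
  exact ⟨h, by rw [Nat.card_units, h],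
    (KSG.card_ringAut (GaloisField p n) (by rw [← Nat.card_eq_fintype_card, h])).1⟩

end Cfsg.Agent.EqOrd
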