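import Cfsg.Agent.EqOrd.Basic
import Cfsg.Agent.Solv.Hall

/-! Solvable groups in which subgroups of equal order are conjugate. -/

set_option autoImplicit false
set_option linter.unusedSectionVars false
set_option linter.unusedVariables false

namespace Cfsg.Agent.EqOrd

open Cfsg Subgroup PLocal PLocal.Amb
open scoped Pointwise

universe u
variable {G : Type u} [Group G] [Finite G] {p : ℕ}

/-- subgroups of equal order are conjugate -/
def AC (G : Type*) [Group G] : Prop :=
  ∀ H K : Subgroup G, Nat.card H = Nat.card K → ∃ g : G, K = cj(g, H)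

theorem eq_of_le_cyclic {P H K : Subgroup G} (hP : IsCyclic P) (hH : H ≤ P) (hK : K ≤ P)
    (h : Nat.card H = Nat.card K) : H = K := by
  have key : ∀ {H K : Subgroup G}, H ≤ P → K ≤ P → Nat.card H = Nat.card K → H ≤ K := by
    intro H K hH hK h x hx
    classical
    let _ := Fintype.ofFinite P
    have h1 := IsCyclic.card_pow_eq_one_le (α := P) (n := Nat.card K) Nat.card_pos
    have h2 : (K.subgroupOf P : Set P).toFinset ⊆ Finset.univ.filter
        (fun a : P => a ^ Nat.card K = 1) := fun a ha => by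
      simp only [Finset.mem_filter, Finset.mem_univ, true_and]
      exact Subtype.ext (orderOf_dvd_iff_pow_eq_one.1
        (K.orderOf_dvd_natCard (mem_subgroupOf.1 (Set.mem_toFinset.1 ha))))
    have h3 := Finset.eq_of_subset_of_card_le h2 (h1.trans (by
      rw [Set.toFinset_card, ← Nat.card_eq_fintype_card]
      exact (Grp.card_subgroupOf_of_le hK).ge))
    have h4 : (⟨x, hH hx⟩ : P) ∈ (K.subgroupOf P : Set P).toFinset := by
      rw [h3]
      simp only [Finset.mem_filter, Finset.mem_univ, true_and]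
      exact Subtype.ext (orderOf_dvd_iff_pow_eq_one.1 (h ▸ H.orderOf_dvd_natCard hx))
    exact mem_subgroupOf.1 (Set.mem_toFinset.1 h4)
  exact le_antisymm (key hH hK h) (key hK hH h.symm)

theorem pconj_of_cyclic [Fact p.Prime] (P : Sylow p G) (hP : IsCyclic P) : PConj p G := by
  intro H K hH hK h
  obtain ⟨a, -, ha⟩ := (isSyl_top P).exists_cj_le hH le_top
  obtain ⟨b, -, hb⟩ := (isSyl_top P).exists_cj_le hK le_top
  have := eq_of_le_cyclic hP ha hb (by rw [card_cj, card_cj, h])
  exact ⟨b⁻¹ * a, by rw [cj_mul, this, cj_inv_cj]⟩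

theorem cyclic_sylow_sub [Fact p.Prime] (L : Subgroup G) (h : ∀ P : Sylow p G, IsCyclic P)
    (Q : Sylow p L) : IsCyclic Q := by
  obtain ⟨P, hP⟩ := (Q.isPGroup'.map L.subtype).exists_le_sylow
  have := h P
  have := isCyclic_of_le hP
  exact ((Q : Subgroup L).equivMapOfInjective _ L.subtype_injective).isCyclic.2 this

theorem cyclic_sylow_quot [Fact p.Prime] {Q : Type*} [Group Q] (f : G →* Q)
    (hf : Function.Surjective f) (h : ∀ P : Sylow p G, IsCyclic P) (T : Sylow p Q) :
    IsCyclic T := by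
  obtain ⟨P, rfl⟩ := Sylow.mapSurjective_surjective hf p T
  have := h P
  exact isCyclic_of_surjective _ (f.subgroupMap_surjective (P : Subgroup G))

/-- the step through a normal subgroup -/
theorem conj_of_quot [Group.IsSolvable G] (M : Subgroup G) [M.Normal] (h : AC (G ⧸ M))
    {H K : Subgroup G} (hc : Nat.card H = Nat.card K)
    (h1 : (M ≤ H ∧ M ≤ K) ∨ (Nat.card H).Coprime (Nat.card M)) : ∃ g : G, K = cj(g, H) := by
  have key : Nat.card (H.map (QuotientGroup.mk' M)) = Nat.card (K.map (QuotientGroup.mk' M)) →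
      ∃ g : G, K ⊔ M = cj(g, H) ⊔ M := fun e => by
    obtain ⟨g, hg⟩ := h _ _ e
    obtain ⟨g, rfl⟩ := QuotientGroup.mk'_surjective M g
    have := congrArg (comap (QuotientGroup.mk' M)) hg
    rw [← map_cj, comap_map_eq, comap_map_eq, QuotientGroup.ker_mk'] at this
    exact ⟨g, this⟩
  rcases h1 with ⟨h1, h2⟩ | h1
  · obtain ⟨g, hg⟩ := key (Nat.eq_of_mul_eq_mul_right (Nat.card_pos (α := M)) (by
      rw [Grp.card_map_mk'_mul_of_le M h1, Grp.card_map_mk'_mul_of_le M h2, hc]))
    refine ⟨g, ?_⟩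
    rwa [sup_eq_left.2 h2, sup_eq_left.2 ((cj_of_normal g M).symm.le.trans (cj_mono g h1))] at hg
  · have hd : ∀ L : Subgroup G, Nat.card L = Nat.card H → M ⊓ L = ⊥ := fun L e =>
      disjoint_iff.1 (disjoint_of_coprime_natCard (e ▸ h1.symm))
    obtain ⟨g, hg⟩ := key (by
      rw [Grp.card_map_mk'_of_disjoint M (hd H rfl), Grp.card_map_mk'_of_disjoint M (hd K hc.symm),
        hc])
    obtain ⟨x, -, hx⟩ := Solv.hall_conj_in (M := K ⊔ M) (H := cj(g, H)) (K := K)
      (hg ▸ le_sup_left) le_sup_left (by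
        rw [Solv.relIndex_eq_of_card_eq_mul (hg ▸ le_sup_left) (n := Nat.card M) (by
          rw [Grp.card_sup_of_disjoint K M (inf_comm M K ▸ hd K hc.symm)]) ((card_cj g H).trans hc),
          card_cj]
        exact h1) ((card_cj g H).trans hc)
    exact ⟨x * g, by rw [cj_mul]; exact hx.symm⟩

/-- the step through a normal abelian Hall subgroup -/
theorem conj_of_hall [Group.IsSolvable G] {M H K : Subgroup G} [M.Normal]
    (hM : (Nat.card M).Coprime M.index) (hc : Nat.card H = Nat.card K) (hU : H ⊓ M = K ⊓ M)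
    (h : ∀ L ≤ 𝐍[(H ⊓ M : Subgroup G)], (Nat.card L).Coprime (Nat.card M) →
      (Nat.card L).Coprime (L.relIndex 𝐍[(H ⊓ M : Subgroup G)]) → AC L) :
    ∃ g : G, K = cj(g, H) := by
  have dec : ∀ X : Subgroup G, ∃ Y ≤ X, Nat.card Y = M.relIndex X ∧
      (Nat.card Y).Coprime (Nat.card M) ∧ Nat.card X = Nat.card Y * Nat.card ↥(X ⊓ M) ∧
      X = X ⊓ M ⊔ Y := fun X => by
    have h1 := Grp.card_inf_mul_relIndex' M X
    have h2 : (M.relIndex X).Coprime (Nat.card M) :=
      Nat.Coprime.coprime_dvd_left (relIndex_dvd_index_of_normal M X) hM.symm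
    have h3 := Nat.Coprime.coprime_dvd_right (card_dvd_of_le (inf_le_left : M ⊓ X ≤ M)) h2
    obtain ⟨Y, hY, e⟩ := Solv.exists_hall_in (M := X) (h1.symm.trans (mul_comm _ _)) h3
    rw [inf_comm, ← e] at h1 h3
    refine ⟨Y, hY, e, e ▸ h2, by rw [← h1, mul_comm], le_antisymm ?_ (sup_le inf_le_left hY)⟩
    refine (eq_of_le_of_card_ge (sup_le inf_le_left hY) (Nat.le_of_dvd Nat.card_pos ?_)).ge
    rw [← h1]
    exact Nat.Coprime.mul_dvd_of_dvd_of_dvd h3.symm (card_dvd_of_le le_sup_left)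
      (card_dvd_of_le le_sup_right)
  have hn : ∀ X : Subgroup G, X ≤ 𝐍[(X ⊓ M : Subgroup G)] := fun X =>
    le_normalizer_inf le_normalizer (by rw [normalizer_eq_top]; exact le_top)
  obtain ⟨H₁, a1, -, a2, a3, a4⟩ := dec H
  obtain ⟨K₁, b1, -, b2, b3, b4⟩ := dec K
  obtain ⟨L, c1, -, c2, c3, -⟩ := dec 𝐍[(H ⊓ M : Subgroup G)]
  have c4 := Solv.relIndex_eq_of_card_eq_mul c1 c3 rfl
  have c5 : ∀ Y : Subgroup G, (Nat.card Y).Coprime (Nat.card M) →
      (Nat.card Y).Coprime (L.relIndex 𝐍[(H ⊓ M : Subgroup G)]) := fun Y hY => by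
    rw [c4]; exact Nat.Coprime.coprime_dvd_right (card_dvd_of_le inf_le_right) hY
  obtain ⟨a, ha, ha'⟩ := Solv.exists_conj_le_hall_in c1 (a1.trans (hn H)) (c5 L c2) (c5 H₁ a2)
  obtain ⟨b, hb, hb'⟩ := Solv.exists_conj_le_hall_in c1 (b1.trans (hU ▸ hn K)) (c5 L c2) (c5 K₁ b2)
  change cj(a, H₁) ≤ L at ha'
  change cj(b, K₁) ≤ L at hb'
  obtain ⟨l, hl⟩ := h L c1 c2 (c5 L c2) (cj(a, H₁).subgroupOf L) (cj(b, K₁).subgroupOf L) (by
    rw [Grp.card_subgroupOf_of_le ha', Grp.card_subgroupOf_of_le hb', card_cj, card_cj]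
    exact Nat.eq_of_mul_eq_mul_right Nat.card_pos (by rw [← a3, hc, b3, hU]))
  have hl' := congrArg (map L.subtype) hl
  rw [map_subtype_cj, map_subgroupOf_of_le ha', map_subgroupOf_of_le hb'] at hl'
  refine ⟨b⁻¹ * (l * a), ?_⟩
  rw [a4, cj_sup, cj_of_mem_normalizer (mul_mem (inv_mem hb) (mul_mem (c1 l.2) ha)), cj_mul,
    cj_mul, ← hl', cj_inv_cj, hU, ← b4]

theorem ac_of_cyc (n : ℕ) : ∀ (G : Type u) [Group G] [Finite G] [Group.IsSolvable G],
    Nat.card G = n → DAll G → ∀ r : ℕ,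
    (∀ p : ℕ, p.Prime → p ≠ r → ∀ P : Sylow p G, IsCyclic P) → AC G := by
  induction n using Nat.strong_induction_on with
  | _ n ih =>
  intro G _ _ _ hn hD r hcyc H K hc
  rcases subsingleton_or_nontrivial G with h | h
  · exact ⟨1, Subsingleton.elim _ _⟩
  obtain ⟨p, M, hp, hM, hM0, hab, hel, hMp, -⟩ := Grp.exists_minNormal_elementaryAbelian G
  have := Fact.mk hp
  obtain ⟨k, hk⟩ := hMp.exists_card_eq
  have hpM : p ∣ Nat.card M := by
    rw [hk]; exact dvd_pow_self p (by rintro rfl; exact hM0 (card_eq_one.1 hk))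
  have hq : AC (G ⧸ M) := ih _ (hn ▸ Grp.card_quotient_lt M hM0) _ rfl
    (hD.of_surjective _ (QuotientGroup.mk'_surjective M)) r fun q hq h =>
      have := Fact.mk hq
      cyclic_sylow_quot _ (QuotientGroup.mk'_surjective M) (hcyc q hq h)
  by_cases h1 : Nat.card M = p
  · refine conj_of_quot M hq hc (or_iff_not_imp_right.2 fun h2 => ?_)
    rw [h1, Nat.coprime_comm, hp.coprime_iff_not_dvd, not_not] at h2
    have key : ∀ X : Subgroup G, p ∣ Nat.card X → M ≤ X := fun X hX => by
      obtain ⟨x, hx⟩ := exists_prime_orderOf_dvd_card' (G := X) p hX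
      rw [← orderOf_coe] at hx
      rw [← eq_of_le_of_card_ge (zpowers_le.2 ((hD p hp).mem M hpM (hx ▸ pow_orderOf_eq_one _)))
        (by rw [h1, Nat.card_zpowers, hx])]
      exact zpowers_le.2 x.2
    exact ⟨key H h2, key K (hc ▸ h2)⟩
  obtain ⟨P, hP⟩ := hMp.exists_le_sylow
  have hnc : ¬ IsCyclic P := fun h => by
    have := isCyclic_of_le hP
    exact h1 (Nat.dvd_antisymm ((IsCyclic.exponent_eq_card (α := M)).symm.dvd.trans
      (Monoid.exponent_dvd_of_forall_pow_eq_one fun x => Subtype.ext (hel x x.2))) hpM)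
  obtain rfl : p = r := by_contra fun h => hnc (hcyc p hp h P)
  have hPM : M = P := by
    refine le_antisymm hP ?_
    rcases S4020.result hD P with h2 | h2 | ⟨⟨e⟩⟩
    · exact absurd h2 hnc
    · exact fun x hx => (hD p hp).mem M hpM (h2.2 x hx)
    · exfalso
      have h3 := P.card_eq_multiplicity
      rw [Nat.card_congr e.toEquiv, Nat.card_eq_fintype_card, QuaternionGroup.card] at h3
      have h4 : 2 ∣ p ^ (Nat.card G).factorization p := h3 ▸ by norm_num
      obtain rfl := (Nat.prime_dvd_prime_iff_eq Nat.prime_two hp).1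
        (Nat.prime_two.dvd_of_dvd_pow h4)
      let f : M → QuaternionGroup 2 := fun x => e ⟨x, hP x.2⟩
      have h5 : (Set.range f) ⊆ {1, .a 2} := by
        rintro _ ⟨x, rfl⟩
        exact (by decide : ∀ y : QuaternionGroup 2, y ^ 2 = 1 → y = 1 ∨ y = .a 2) _ (by
          rw [← map_pow, show (⟨x, hP x.2⟩ : (P : Subgroup G)) ^ 2 = 1 from
            Subtype.ext (hel x x.2), map_one])
      have h6 := (Set.ncard_le_ncard h5).trans (Set.ncard_insert_le _ _)
      rw [Set.ncard_range_of_injective (f := f) (fun x y h => Subtype.ext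
        (congrArg (fun z : (P : Subgroup G) => (z : G)) (e.injective h))), Set.ncard_singleton] at h6
      exact h1 (le_antisymm h6 (Nat.le_of_dvd Nat.card_pos hpM))
  have hcop : (Nat.card M).Coprime M.index := hPM ▸ P.card_coprime_index
  obtain ⟨g, hg⟩ := hD p hp (H ⊓ M) (K ⊓ M) (hMp.to_le inf_le_right) (hMp.to_le inf_le_right) (by
    have key : ∀ X : Subgroup G, IsSyl p (X ⊓ M) X := fun X => isSyl_of_not_dvd_relIndex
      (hMp.to_le inf_le_right) inf_le_left fun h => P.not_dvd_index (by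
        rw [inf_comm, inf_relIndex_right] at h
        exact hPM ▸ h.trans (relIndex_dvd_index_of_normal M X))
    rw [(key H).card_eq_pow, (key K).card_eq_pow, hc])
  obtain ⟨x, hx⟩ := conj_of_hall (H := cj(g, H)) (K := K) hcop ((card_cj g H).trans hc)
    (by rw [hg, cj_inf, cj_of_normal g M]) fun L _ hL _ => by
      have hz : ∀ q : ℕ, q.Prime → ∀ Q : Sylow q L, IsCyclic Q := fun q hq Q => by
        have := Fact.mk hq
        by_cases h : q = p
        · subst h
          have : (Q : Subgroup L) = ⊥ := (isSyl_top Q).eq_bot_iff.2 (by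
            rw [card_top]
            exact fun h => hp.one_lt.ne' (Nat.eq_one_of_dvd_coprimes hL h hpM))
          rw [this]; infer_instance
        · exact cyclic_sylow_sub L (hcyc q hq h) Q
      refine ih _ (hn ▸ Grp.card_lt_of_ne_top ?_) L rfl (fun q hq =>
        have := Fact.mk hq
        pconj_of_cyclic default (hz q hq _)) p fun q hq _ => hz q hq
      rintro rfl
      rw [card_top] at hL
      exact hp.one_lt.ne' (Nat.eq_one_of_dvd_coprimes hL (hpM.trans (card_subgroup_dvd_card M)) hpM)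
  exact ⟨x * g, by rw [cj_mul, hx]⟩

end Cfsg.Agent.EqOrd
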